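import Cfsg.Agent.Lib.Fi22Mult.Moves

/-!
Square matrices of degree 54 over the field with two elements, a row being the bits of a number.
-/

set_option autoImplicit false

namespace CfsgLib.Fi22Mult

open CfsgLib.CosetEnum

/-- the image of a row vector -/
noncomputable def vmul (x : ℕ) (A : List ℕ) : ℕ :=
  List.rec (motive := fun _ => ℕ → ℕ) (fun _ => 0)
    (fun b _ ih y => strict y fun v => strict (ih (v / 2)) fun r => pick (Nat.beq (v % 2) 1) (b ^^^ r) r) A x

theorem vmul_nil (x : ℕ) : vmul x [] = 0 := rfl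

theorem vmul_cons (x b : ℕ) (A : List ℕ) :
    vmul x (b :: A) = (if x % 2 = 1 then b else 0) ^^^ vmul (x / 2) A := by
  show strict x (fun v => strict (vmul (v / 2) A) fun r => pick (Nat.beq (v % 2) 1) (b ^^^ r) r) = _
  rw [strict_eq, strict_eq]
  by_cases h : x % 2 = 1
  · simp [h]
  · have hb : Nat.beq (x % 2) 1 = false := by
      rw [Bool.eq_false_iff]; exact fun e => h (Nat.eq_of_beq_eq_true e)
    simp [h, hb]

theorem half_xor (x y : ℕ) : (x ^^^ y) / 2 = x / 2 ^^^ y / 2 ∧
    ((x ^^^ y) % 2 = 1 ↔ ¬(x % 2 = 1 ↔ y % 2 = 1)) := by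
  refine ⟨Nat.eq_of_testBit_eq fun i => by simp [Nat.testBit_div_two, Nat.testBit_xor], ?_⟩
  have h := Nat.testBit_xor x y 0
  simp only [Nat.testBit_zero] at h
  by_cases hx : x % 2 = 1 <;> by_cases hy : y % 2 = 1 <;> simp_all

theorem vmul_xor : ∀ (A : List ℕ) (x y : ℕ), vmul (x ^^^ y) A = vmul x A ^^^ vmul y A
  | [], x, y => by simp [vmul_nil]
  | b :: A, x, y => by
    obtain ⟨h1, h2⟩ := half_xor x y
    rw [vmul_cons, vmul_cons, vmul_cons, h1, vmul_xor A]
    apply Nat.eq_of_testBit_eq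
    intro i
    rw [if_congr h2 rfl rfl]
    by_cases hx : x % 2 = 1 <;> by_cases hy : y % 2 = 1 <;>
      simp [hx, hy, Nat.testBit_xor] <;>
      cases b.testBit i <;> cases (vmul (x / 2) A).testBit i <;> cases (vmul (y / 2) A).testBit i <;> rfl

theorem vmul_zero : ∀ A : List ℕ, vmul 0 A = 0
  | [] => rfl
  | b :: A => by rw [vmul_cons, Nat.zero_div, vmul_zero A]; simp

theorem vmul_lt {n : ℕ} : ∀ (A : List ℕ) (x : ℕ), (∀ b ∈ A, b < 2 ^ n) → vmul x A < 2 ^ n
  | [], _, _ => by rw [vmul_nil]; exact Nat.two_pow_pos n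
  | b :: A, x, h => by
    rw [vmul_cons]
    refine Nat.xor_lt_two_pow ?_ (vmul_lt A _ fun c hc => h c (List.mem_cons_of_mem _ hc))
    split
    · exact h b List.mem_cons_self
    · exact Nat.two_pow_pos n

theorem vmul_map (B : List ℕ) : ∀ (A : List ℕ) (x : ℕ),
    vmul x (A.map fun r => vmul r B) = vmul (vmul x A) B
  | [], x => by rw [List.map_nil, vmul_nil, vmul_zero]
  | b :: A, x => by
    rw [List.map_cons, vmul_cons, vmul_cons, vmul_map B A, vmul_xor]
    split
    · rfl
    · rw [vmul_zero]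

theorem vmul_double : ∀ (A : List ℕ) (x : ℕ), vmul x (A.map (2 * ·)) = 2 * vmul x A
  | [], _ => rfl
  | b :: A, x => by
    rw [List.map_cons, vmul_cons, vmul_cons, vmul_double A]
    have e : ∀ p q : ℕ, 2 * (p ^^^ q) = 2 * p ^^^ 2 * q := fun p q => by
      obtain ⟨h1, h2⟩ := half_xor (2 * p) (2 * q)
      rw [Nat.mul_div_cancel_left p (by norm_num), Nat.mul_div_cancel_left q (by norm_num)] at h1
      have h3 : ¬ (2 * p ^^^ 2 * q) % 2 = 1 := by rw [h2]; simp
      omega
    rw [e]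
    split <;> simp

/-- the rows of the unit matrix -/
def oneB : ℕ → List ℕ
  | 0 => []
  | n + 1 => 1 :: (oneB n).map (2 * ·)

theorem vmul_oneB : ∀ n x, x < 2 ^ n → vmul x (oneB n) = x
  | 0, x, h => by
    rw [pow_zero] at h
    rw [oneB, vmul_nil]; omega
  | n + 1, x, h => by
    rw [oneB, vmul_cons, vmul_double, vmul_oneB n (x / 2) (by rw [pow_succ] at h; omega)]
    rcases Nat.mod_two_eq_zero_or_one x with h0 | h0
    · rw [if_neg (by omega), Nat.zero_xor]; omega
    · rw [if_pos h0]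
      obtain ⟨h1, h2⟩ := half_xor 1 (2 * (x / 2))
      rw [Nat.mul_div_cancel_left (x / 2) (by norm_num), show (1 : ℕ) / 2 = 0 from rfl, Nat.zero_xor] at h1
      have h3 : (1 ^^^ 2 * (x / 2)) % 2 = 1 := by rw [h2]; simp
      omega

/-- the product: first `A`, then `B` -/
noncomputable def mulB (A B : List ℕ) : List ℕ :=
  forceW B fun B' => forceW A fun A' => forceW (A'.map fun r => vmul r B') fun C => C

theorem mulB_eq (A B : List ℕ) : mulB A B = A.map fun r => vmul r B := by
  rw [mulB, forceW_eq, forceW_eq, forceW_eq]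

/-- equality of lists -/
def eqB : List ℕ → List ℕ → Bool
  | [], [] => true
  | a :: as, b :: bs => Nat.beq a b && eqB as bs
  | _, _ => false

theorem eqB_eq : ∀ {A B : List ℕ}, eqB A B = true → A = B
  | [], [], _ => rfl
  | a :: as, b :: bs, h => by
    rw [eqB, Bool.and_eq_true, Nat.beq_eq] at h
    rw [h.1, eqB_eq h.2]
  | [], _ :: _, h => by simp [eqB] at h
  | _ :: _, [], h => by simp [eqB] at h

end CfsgLib.Fi22Mult
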