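import Cfsg.Agent.Lib.Fi22Mult.Moves
import Cfsg.Agent.Lib.Fi22Mult.Data

/-!
The kernel checks of the certificates in the Coxeter group of the diagram `Y₃₃₂`.
-/

set_option autoImplicit false
set_option Elab.async false

namespace CfsgLib.Fi22Mult

open CfsgLib.CosetEnum

/-- the spider word -/
def spiderW : List ℕ := [3, 2, 1, 3, 4, 5, 3, 7, 8]

/-- the first word of length seven -/
def sevenA : List ℕ := [0, 1, 2, 3, 4, 5, 7]

/-- the second word of length seven -/
def sevenB : List ℕ := [1, 2, 3, 4, 5, 6, 7]

/-- the commutator of a node with the cube of a translation -/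
def cubeW (i : ℕ) (u : List ℕ) : List ℕ := [i] ++ powWord u 3 ++ [i] ++ (powWord u 3).reverse

/-- the test for a cube -/
noncomputable def cubeOK (i : ℕ) (u p : List ℕ) (ms : List (List ℕ)) : Bool :=
  vanishes (glue ms) (cubeW i u ++ powWord p.reverse 3)

/-- the test for a commutation -/
noncomputable def commOK (p q : List ℕ) (ms : List (List ℕ)) : Bool :=
  vanishes (glue ms) (p ++ q ++ p.reverse ++ q.reverse)

/-- the factors of the translation of the spider word -/
def spiderFactors : List (List ℕ) :=
  [trP0.reverse, trP0.reverse, trP0.reverse, trP1.reverse, trP1.reverse, trP1.reverse, trP2.reverse,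
    trP3, trP4, trP5, trP5]

theorem cube0_ok : cubeOK 2 trU0 trP0 cubeM0 = true := by decide +kernel
theorem cube1_ok : cubeOK 3 trU1 trP1 cubeM1 = true := by decide +kernel
theorem cube2_ok : cubeOK 4 trU2 trP2 cubeM2 = true := by decide +kernel
theorem cube3_ok : cubeOK 5 trU3 trP3 cubeM3 = true := by decide +kernel
theorem cube4_ok : cubeOK 7 trU4 trP4 cubeM4 = true := by decide +kernel
theorem cube5_ok : cubeOK 8 trU5 trP5 cubeM5 = true := by decide +kernel
theorem comm01_ok : commOK trP0 trP1 commM01 = true := by decide +kernel
theorem comm02_ok : commOK trP0 trP2 commM02 = true := by decide +kernel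
theorem comm03_ok : commOK trP0 trP3 commM03 = true := by decide +kernel
theorem comm04_ok : commOK trP0 trP4 commM04 = true := by decide +kernel
theorem comm05_ok : commOK trP0 trP5 commM05 = true := by decide +kernel
theorem comm12_ok : commOK trP1 trP2 commM12 = true := by decide +kernel
theorem comm13_ok : commOK trP1 trP3 commM13 = true := by decide +kernel
theorem comm14_ok : commOK trP1 trP4 commM14 = true := by decide +kernel
theorem comm15_ok : commOK trP1 trP5 commM15 = true := by decide +kernel
theorem comm23_ok : commOK trP2 trP3 commM23 = true := by decide +kernel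
theorem comm24_ok : commOK trP2 trP4 commM24 = true := by decide +kernel
theorem comm25_ok : commOK trP2 trP5 commM25 = true := by decide +kernel
theorem comm34_ok : commOK trP3 trP4 commM34 = true := by decide +kernel
theorem comm35_ok : commOK trP3 trP5 commM35 = true := by decide +kernel
theorem comm45_ok : commOK trP4 trP5 commM45 = true := by decide +kernel

theorem spider_ok : vanishes (glue spiderM) (powWord spiderW 10 ++ spiderFactors.flatten) = true := by
  decide +kernel

theorem sevenA_ok : vanishes (glue sevenAM) (powWord sevenA 18) = true := by decide +kernel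

theorem sevenB_ok : vanishes (glue sevenBM) (powWord sevenB 18) = true := by decide +kernel

end CfsgLib.Fi22Mult
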