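import Cfsg.Prelude.Def_KGroupFacts
import Cfsg.Agent.Lib.Fi22Pres.Main
import Cfsg.Agent.Lib.Fi22Mult.BitMat
import Cfsg.Agent.Lib.Fi22Mult.TripleData
import Cfsg.Agent.Lib.Fi22Mult.MoveChecks

/-!
A triple cover of the presented group Fi22, of degree 27 over the field with four elements.
-/

set_option autoImplicit false

namespace CfsgLib.Fi22Mult

open CfsgLib.CosetEnum CfsgLib.Fi22Pres Cfsg.Spor

/-- the rows of a generator -/
def gB (g : ℕ) : List ℕ := tripleRows.getD g (oneB 54)

/-- the rows of a word -/
noncomputable def wB : List ℕ → List ℕ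
  | [] => oneB 54
  | x :: v => mulB (wB v) (gB x)

/-- the number of vectors -/
def cap : ℕ := 2 ^ 54

/-- vectors -/
abbrev Vec : Type := {x : ℕ // x < cap}

instance : Finite Vec := Finite.of_injective (fun x : Vec => (⟨x.1, x.2⟩ : Fin cap)) fun a b h => by
  simpa [Subtype.ext_iff] using congrArg Fin.val h

theorem gB_small : (List.range 9).all (fun g => (gB g).all fun b => Nat.blt b (2 ^ 54)) = true := by
  decide +kernel

theorem gB_inv : (List.range 9).all (fun g => eqB (mulB (gB g) (gB g)) (oneB 54)) = true := by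
  decide +kernel

theorem gB_lt {g : ℕ} (hg : g < 9) (x : ℕ) : vmul x (gB g) < cap := by
  refine vmul_lt _ _ fun b hb => ?_
  have h := gB_small
  simp only [List.all_eq_true, List.mem_range, Nat.blt_eq] at h
  exact h g hg b hb

theorem gB_invol {g : ℕ} (hg : g < 9) (x : Vec) : vmul (vmul x.1 (gB g)) (gB g) = x.1 := by
  have h := gB_inv
  simp only [List.all_eq_true, List.mem_range] at h
  rw [← vmul_map, ← mulB_eq, eqB_eq (h g hg), vmul_oneB 54 x.1 x.2]

/-- a generator as a permutation of the vectors -/
noncomputable def gP (g : ℕ) : Equiv.Perm Vec :=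
  if hg : g < 9 then
    { toFun := fun x => ⟨vmul x.1 (gB g), gB_lt hg _⟩
      invFun := fun x => ⟨vmul x.1 (gB g), gB_lt hg _⟩
      left_inv := fun x => Subtype.ext (gB_invol hg x)
      right_inv := fun x => Subtype.ext (gB_invol hg x) }
  else 1

theorem gP_apply {g : ℕ} (hg : g < 9) (x : Vec) : (gP g x).1 = vmul x.1 (gB g) := by
  rw [gP, dif_pos hg]; rfl

theorem gP_sq (g : ℕ) : gP g * gP g = 1 := by
  by_cases hg : g < 9
  · ext x
    simp only [Equiv.Perm.coe_mul, Function.comp_apply, Equiv.Perm.coe_one, id_eq, gP_apply hg, gB_invol hg]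
  · rw [gP, dif_neg hg, one_mul]

theorem prodW_apply : ∀ {v : List ℕ}, (∀ g ∈ v, g < 9) → ∀ x : Vec, (prodW gP v x).1 = vmul x.1 (wB v)
  | [], _, x => by rw [prodW_nil, wB, vmul_oneB 54 x.1 x.2]; rfl
  | a :: v, h, x => by
    rw [prodW_cons, Equiv.Perm.mul_apply, gP_apply (h a List.mem_cons_self),
      prodW_apply (fun g hg => h g (List.mem_cons_of_mem _ hg)), wB, mulB_eq, vmul_map]

/-- two words act alike -/
noncomputable def sameB (u v : List ℕ) : Bool :=
  u.all (fun g => Nat.blt g 9) && v.all (fun g => Nat.blt g 9) && eqB (wB u) (wB v)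

theorem sameB_spec {u v : List ℕ} (h : sameB u v = true) : prodW gP u = prodW gP v := by
  simp only [sameB, Bool.and_eq_true, List.all_eq_true, Nat.blt_eq] at h
  ext x
  rw [prodW_apply h.1.1, prodW_apply h.1.2, eqB_eq h.2]

/-- the index pairs with their labels -/
def pairList : List (ℕ × ℕ × ℕ) :=
  (List.range 9).flatMap fun x => (List.range 9).map fun y =>
    (x, y, coxLabel Fi22.edges (letters.getD x .a) (letters.getD y .a))

theorem pair_ok : pairList.all (fun d => sameB (pairWord d.1 d.2.1 d.2.2) []) = true := by decide +kernel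

/-- the central word -/
def zW : List ℕ := powWord spiderW 10

theorem zW_cube : sameB (powWord zW 3) [] = true := by decide +kernel

theorem zW_comm : (List.range 9).all (fun g => sameB (zW ++ [g]) (g :: zW)) = true := by decide +kernel

theorem seven_ok : (sameB (powWord sevenA 9) [] && sameB (powWord sevenB 9) []) = true := by
  decide +kernel

theorem moved : (!Nat.beq (vmul 1 (wB zW)) 1 && !Nat.beq (vmul 1 (wB [0])) 1 &&
    zW.all (fun g => Nat.blt g 9)) = true := by decide +kernel

/-- the covering group -/
def Cover : Subgroup (Equiv.Perm Vec) := Subgroup.closure (Set.range gP)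

/-- a generator of the covering group -/
noncomputable def cg (g : ℕ) : Cover := ⟨gP g, Subgroup.subset_closure (Set.mem_range_self g)⟩

theorem cg_val (v : List ℕ) : ((prodW cg v : Cover) : Equiv.Perm Vec) = prodW gP v := by
  rw [show ((prodW cg v : Cover) : Equiv.Perm Vec) = Cover.subtype (prodW cg v) from rfl, map_prodW]
  rfl

/-- the central element -/
noncomputable def cz : Cover := prodW cg zW

theorem cz_cube : cz ^ 3 = 1 := Subtype.ext (by
  rw [cz, ← prodW_powWord, cg_val, sameB_spec zW_cube, prodW_nil]; rfl)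

theorem cz_ne : cz ≠ 1 := by
  intro e
  have h := moved
  simp only [Bool.and_eq_true, Bool.not_eq_true', List.all_eq_true, Nat.blt_eq] at h
  have e' : prodW gP zW = 1 := by rw [← cg_val]; exact congrArg Subtype.val e
  have := prodW_apply h.2 (⟨1, by decide +kernel⟩ : Vec)
  rw [e'] at this
  change (1 : ℕ) = vmul 1 (wB zW) at this
  rw [← this, Nat.beq_refl] at h
  exact absurd h.1.1 (by decide)

theorem cz_central : cz ∈ Subgroup.center Cover := by
  have h := zW_comm
  simp only [List.all_eq_true, List.mem_range] at h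
  have key : ∀ g, gP g * prodW gP zW = prodW gP zW * gP g := by
    intro g
    by_cases hg : g < 9
    · have := sameB_spec (h g hg)
      rw [prodW_append, prodW_cons, prodW_cons, prodW_nil, mul_one] at this
      exact this.symm
    · rw [gP, dif_neg hg, one_mul, mul_one]
  refine Subgroup.mem_center_iff.mpr fun y => Subtype.ext ?_
  show (y : Equiv.Perm Vec) * (cz : Cover) = (cz : Cover) * (y : Equiv.Perm Vec)
  rw [show ((cz : Cover) : Equiv.Perm Vec) = prodW gP zW from cg_val zW]
  obtain ⟨y, hy⟩ := y
  induction hy using Subgroup.closure_induction with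
  | mem y hy => obtain ⟨g, rfl⟩ := hy; exact key g
  | one => simp
  | mul a b _ _ ha hb => exact Commute.mul_left (show Commute a _ from ha) hb
  | inv a _ ha => exact Commute.inv_left (show Commute a _ from ha)

/-- the kernel -/
noncomputable def cK : Subgroup Cover := Subgroup.zpowers cz

instance cK_normal : cK.Normal :=
  ⟨fun n hn g => by
    obtain ⟨k, rfl⟩ := Subgroup.mem_zpowers_iff.mp hn
    rw [Subgroup.mem_center_iff.mp (zpow_mem cz_central k) g, mul_inv_cancel_right]
    exact zpow_mem (Subgroup.mem_zpowers _) k⟩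

theorem cz_order : orderOf cz = 3 := by
  haveI : Fact (Nat.Prime 3) := ⟨Nat.prime_three⟩
  exact orderOf_eq_prime cz_cube cz_ne

/-- the generators in the quotient -/
noncomputable def qg (x : Fi22.Gen) : Cover ⧸ cK := QuotientGroup.mk' cK (cg (letters.idxOf x))

theorem qg_rel : ∀ r ∈ coxRelators Fi22.edges ∪ {r | r ∈ Fi22.extra}, FreeGroup.lift qg r = 1 := by
  have hidx : ∀ x : Fi22.Gen, letters.idxOf x < 9 ∧ letters.getD (letters.idxOf x) .a = x := by
    intro x; cases x <;> decide
  rintro r (⟨x, -, y, -, rfl⟩ | hr)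
  · simp only [map_pow, map_mul, FreeGroup.lift_apply_of, qg]
    rw [← map_mul, ← map_pow]
    refine (congrArg _ (Subtype.ext ?_)).trans (map_one _)
    have h := pair_ok
    simp only [List.all_eq_true] at h
    have hm : (letters.idxOf x, letters.idxOf y, coxLabel Fi22.edges x y) ∈ pairList := by
      refine List.mem_flatMap.mpr ⟨_, List.mem_range.mpr (hidx x).1, List.mem_map.mpr ⟨_,
        List.mem_range.mpr (hidx y).1, ?_⟩⟩
      rw [(hidx x).2, (hidx y).2]
    have e := sameB_spec (h _ hm)
    rw [prodW_pairWord, prodW_nil] at e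
    exact e
  · obtain ⟨k, hk, rfl⟩ := List.getElem_of_mem (Set.mem_ofPred_eq ▸ hr : r ∈ Fi22.extra)
    have hlen := extraWords.length_eq
    have h2 := (List.forall₂_iff_get.mp extraWords).2 k hk (by omega)
    simp only [List.get_eq_getElem] at h2
    rw [h2 _ qg fun x => by
      rw [qg, ← map_mul]
      exact (congrArg _ (Subtype.ext (gP_sq _))).trans (map_one _)]
    have hmap : ∀ v : List ℕ, (∀ g ∈ v, g < 9) → prodW cg v ∈ cK → prodW (genOf letters qg) v = 1 := by
      intro v hv hvK
      rw [prodW_congr (gen' := fun g => QuotientGroup.mk' cK (cg g)) fun g hg => ?_, ← map_prodW]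
      · exact (QuotientGroup.eq_one_iff _).mpr hvK
      · have hl : g < letters.length := hv g hg
        rw [genOf_of_lt hl, qg, List.Nodup.idxOf_getElem (by decide : letters.Nodup) g hl]
    have hS : (powWord spiderW 10).all (fun g => Nat.blt g 9) = true := by decide +kernel
    have hA : (powWord sevenA 9).all (fun g => Nat.blt g 9) = true := by decide +kernel
    have hB : (powWord sevenB 9).all (fun g => Nat.blt g 9) = true := by decide +kernel
    simp only [List.all_eq_true, Nat.blt_eq] at hS hA hB
    have h7 := seven_ok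
    rw [Bool.and_eq_true] at h7
    have one_of : ∀ v, sameB v [] = true → prodW cg v ∈ cK := fun v hv => by
      rw [show prodW cg v = 1 from Subtype.ext (by rw [cg_val, sameB_spec hv, prodW_nil]; rfl)]
      exact one_mem _
    have hk3 : k < 3 := hk
    interval_cases k
    · exact hmap _ hS (Subgroup.mem_zpowers cz)
    · exact hmap _ hA (one_of _ h7.1)
    · exact hmap _ hB (one_of _ h7.2)

/-- the map to the quotient -/
noncomputable def toQuot : Fi22 →* Cover ⧸ cK := PresentedGroup.toGroup qg_rel

theorem toQuot_bijective : Function.Bijective toQuot := by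
  constructor
  · have : IsSimpleGroup Fi22 := isFi22.1
    rw [← MonoidHom.ker_eq_bot_iff]
    refine (inferInstance : toQuot.ker.Normal).eq_bot_or_eq_top.resolve_right fun h => ?_
    have h1 : toQuot (PresentedGroup.of Fi22.Gen.a) = 1 :=
      MonoidHom.mem_ker.mp (by rw [h]; exact Subgroup.mem_top _)
    rw [toQuot, PresentedGroup.toGroup.of, qg] at h1
    obtain ⟨j, hj⟩ := Subgroup.mem_zpowers_iff.mp
      (show cg 0 ∈ Subgroup.zpowers cz from (QuotientGroup.eq_one_iff (N := cK) (cg 0)).mp h1)
    have h3 : cg 0 ^ 3 = 1 := by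
      rw [show cg 0 = cz ^ j from hj.symm, ← zpow_natCast, ← zpow_mul, mul_comm j, zpow_mul, zpow_natCast,
        cz_cube, one_zpow]
    have h4 : cg 0 = 1 := by
      rw [pow_succ, pow_two, show cg 0 * cg 0 = 1 from Subtype.ext (gP_sq 0), one_mul] at h3
      exact h3
    have hm := moved
    simp only [Bool.and_eq_true, Bool.not_eq_true'] at hm
    have e' := prodW_apply (v := [0]) (by simp) (⟨1, by decide +kernel⟩ : Vec)
    rw [prodW_cons, prodW_nil, mul_one, show gP 0 = 1 from congrArg Subtype.val h4] at e'
    change (1 : ℕ) = vmul 1 (wB [0]) at e'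
    rw [← e', Nat.beq_refl] at hm
    exact absurd hm.1.2 (by decide)
  · intro q
    obtain ⟨⟨y, hy⟩, rfl⟩ := QuotientGroup.mk'_surjective cK q
    suffices ∀ y (hy : y ∈ Cover), QuotientGroup.mk' cK ⟨y, hy⟩ ∈ toQuot.range from this y hy
    intro y hy
    induction hy using Subgroup.closure_induction with
    | mem y hy =>
      obtain ⟨g, rfl⟩ := hy
      by_cases hg : g < 9
      · refine ⟨PresentedGroup.of (letters[g]'hg), ?_⟩
        rw [toQuot, PresentedGroup.toGroup.of, qg, List.Nodup.idxOf_getElem (by decide : letters.Nodup) g hg]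
        rfl
      · refine ⟨1, ?_⟩
        rw [map_one]
        refine ((congrArg _ (Subtype.ext ?_)).trans (map_one _)).symm
        show gP g = 1
        rw [gP, dif_neg hg]
    | one => exact ⟨1, (map_one toQuot).trans (map_one (QuotientGroup.mk' cK)).symm⟩
    | mul a b ha hb iha ihb =>
      have := mul_mem iha ihb
      rwa [← map_mul] at this
    | inv a ha iha =>
      have := inv_mem iha
      rwa [← map_inv] at this

/-- the covering map -/
noncomputable def tripleMap : Cover →* Fi22 :=
  (MulEquiv.ofBijective toQuot toQuot_bijective).symm.toMonoidHom.comp (QuotientGroup.mk' cK)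

theorem tripleMap_ker : tripleMap.ker = cK := by
  ext x
  simp [tripleMap]

theorem triple_stem : Cfsg.IsStemExtension tripleMap ∧ Nat.card tripleMap.ker = 3 := by
  refine ⟨⟨?_, ?_, ?_⟩, ?_⟩
  · exact (MulEquiv.ofBijective toQuot toQuot_bijective).symm.surjective.comp (QuotientGroup.mk'_surjective cK)
  · rw [tripleMap_ker]; exact (Subgroup.zpowers_le).mpr cz_central
  · rw [tripleMap_ker]
    refine (Subgroup.zpowers_le).mpr ?_
    rw [← Abelianization.ker_of, MonoidHom.mem_ker]
    set φ := (Abelianization.of : Cover →* Abelianization Cover)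
    have hsq : ∀ g, φ (cg g) * φ (cg g) = 1 := fun g => by
      rw [← map_mul, show cg g * cg g = 1 from Subtype.ext (gP_sq g), map_one]
    have hw : ∀ v : List ℕ, φ (prodW cg v) ^ 2 = 1 := fun v => by
      induction v with
      | nil => simp
      | cons a v ih => rw [prodW_cons, map_mul, mul_pow, ih, mul_one, pow_two, hsq]
    have h2 : φ cz ^ 2 = 1 := hw zW
    have h3 : φ cz ^ 3 = 1 := by rw [← map_pow, cz_cube, map_one]
    rw [pow_succ, h2, one_mul] at h3
    exact h3
  · rw [tripleMap_ker, cK, Nat.card_zpowers, cz_order]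

end CfsgLib.Fi22Mult
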