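import Cfsg.Agent.Lib.Fi22Mult.Bound
import Cfsg.Agent.Lib.Fi22Mult.Triple
import Cfsg.Agent.Lib.Fi23Pres.Cover

/-!
The Schur multiplier of the presented group Fi22 is cyclic of order six.
-/

set_option autoImplicit false

namespace CfsgLib.Fi22Mult

open CfsgLib.Fi22Pres Cfsg.Spor

theorem fi22_perfect : commutator Fi22 = ⊤ := by
  have hs : IsSimpleGroup Fi22 := isFi22.1
  refine (inferInstance : (commutator Fi22).Normal).eq_bot_or_eq_top.resolve_left fun h => ?_
  have hcomm : ∀ a b : Fi22, a * b = b * a := fun a b => by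
    have hab := Subgroup.commutator_mem_commutator (Subgroup.mem_top a) (Subgroup.mem_top b)
    rw [← commutator_def, h, Subgroup.mem_bot] at hab
    exact (commutatorElement_eq_one_iff_commute.mp hab).eq
  letI : CommGroup Fi22 := { (inferInstance : Group Fi22) with mul_comm := hcomm }
  have hp : (Nat.card Fi22).Prime := IsSimpleGroup.prime_card
  rw [card_faithful.1] at hp
  norm_num at hp

/-- the quotient of a non-split double cover is a stem extension -/
theorem stem_of_double {A : Type} [Group A] (h : Cfsg.IsNonsplitDoubleCover A Fi22) :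
    ∃ σ : A →* Fi22, Cfsg.IsStemExtension σ ∧ Nat.card σ.ker = 2 := by
  obtain ⟨h2, ⟨q⟩, hns⟩ := h
  let σ : A →* Fi22 := q.toMonoidHom.comp (QuotientGroup.mk' (Subgroup.center A))
  have hker : σ.ker = Subgroup.center A := by
    ext x; simp [σ, MonoidHom.mem_ker]
  have hsur : Function.Surjective σ := q.surjective.comp (QuotientGroup.mk'_surjective _)
  refine ⟨σ, ⟨hsur, hker.le, ?_⟩, by rw [hker, h2]⟩
  rw [hker]
  by_contra hle
  have : Finite (Subgroup.center A) := Nat.finite_of_card_ne_zero (by omega)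
  have hdis : Subgroup.center A ⊓ commutator A = ⊥ := by
    rw [eq_bot_iff]
    intro z hz
    by_contra hz1
    apply hle
    intro y hy
    have hcard : Nat.card (Subgroup.center A) = 2 := h2
    obtain ⟨u, v, -, huv⟩ := Nat.card_eq_two_iff.mp hcard
    have hmem : ∀ w : Subgroup.center A, w = 1 ∨ w = ⟨z, hz.1⟩ := by
      intro w
      have hne : (⟨z, hz.1⟩ : Subgroup.center A) ≠ 1 := fun e => hz1 (congrArg Subtype.val e)
      have key : ∀ a : Subgroup.center A, a = u ∨ a = v := fun a => by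
        have := Set.mem_univ a
        rwa [← huv, Set.mem_insert_iff, Set.mem_singleton_iff] at this
      rcases key w with rfl | rfl <;> rcases key 1 with e1 | e1 <;> rcases key ⟨z, hz.1⟩ with e2 | e2 <;>
        simp_all
    rcases hmem ⟨y, hy⟩ with e | e
    · rw [show y = 1 from congrArg Subtype.val e]; exact one_mem _
    · rw [show y = z from congrArg Subtype.val e]; exact hz.2
  refine hns (commutator A) ?_
  refine Subgroup.isComplement'_of_disjoint_and_mul_eq_univ (disjoint_iff.mpr hdis) ?_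
  refine Set.eq_univ_of_forall fun x => ?_
  have hmap : (commutator A).map σ = ⊤ := by
    rw [commutator_def, Subgroup.map_commutator, Subgroup.map_top_of_surjective σ hsur, ← commutator_def,
      fi22_perfect]
  obtain ⟨c, hc, hcx⟩ := show σ x ∈ (commutator A).map σ from hmap ▸ Subgroup.mem_top _
  refine Set.mem_mul.mpr ⟨x * c⁻¹, ?_, c, hc, by group⟩
  rw [SetLike.mem_coe, ← hker, MonoidHom.mem_ker, map_mul, map_inv, hcx, mul_inv_cancel]

/-- the fibre product of stem extensions with kernels of orders two and three -/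
theorem exists_six {A B : Type} [Group A] [Finite A] [Group B] [Finite B] {σ : A →* Fi22} {τ : B →* Fi22}
    (hσ : Cfsg.IsStemExtension σ) (h2 : Nat.card σ.ker = 2) (hτ : Cfsg.IsStemExtension τ)
    (h3 : Nat.card τ.ker = 3) :
    ∃ (Γ : Type) (_ : Group Γ) (_ : Finite Γ) (ν : Γ →* Fi22),
      Cfsg.IsStemExtension ν ∧ Nonempty (ν.ker ≃* Multiplicative (ZMod 6)) := by
  let P : Subgroup (A × B) := (σ.comp (MonoidHom.fst A B)).eqLocus (τ.comp (MonoidHom.snd A B))
  let pA : P →* A := (MonoidHom.fst A B).comp P.subtype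
  let pB : P →* B := (MonoidHom.snd A B).comp P.subtype
  have hA : Function.Surjective pA := fun a => by
    obtain ⟨b, hb⟩ := hτ.1 (σ a)
    exact ⟨⟨(a, b), hb.symm⟩, rfl⟩
  have hB : Function.Surjective pB := fun b => by
    obtain ⟨a, ha⟩ := hσ.1 (τ b)
    exact ⟨⟨(a, b), ha⟩, rfl⟩
  let ν : P →* Fi22 := σ.comp pA
  have hkp : ∀ p : P, p ∈ ν.ker → pA p ∈ σ.ker ∧ pB p ∈ τ.ker := fun p hp =>
    ⟨hp, MonoidHom.mem_ker.mpr ((show σ (pA p) = τ (pB p) from p.2).symm.trans hp)⟩
  have hA2 : ∀ a ∈ σ.ker, a ^ 2 = 1 := fun a ha => by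
    have := congrArg Subtype.val (pow_card_eq_one' (x := (⟨a, ha⟩ : σ.ker)))
    rwa [h2] at this
  have hB3 : ∀ b ∈ τ.ker, b ^ 3 = 1 := fun b hb => by
    have := congrArg Subtype.val (pow_card_eq_one' (x := (⟨b, hb⟩ : τ.ker)))
    rwa [h3] at this
  have hstem : Cfsg.IsStemExtension ν := by
    refine ⟨hσ.1.comp hA, fun p hp => ?_, fun p hp => ?_⟩
    · refine Subgroup.mem_center_iff.mpr fun y => Subtype.ext (Prod.ext ?_ ?_)
      · exact Subgroup.mem_center_iff.mp (hσ.2.1 (hkp p hp).1) (pA y)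
      · exact Subgroup.mem_center_iff.mp (hτ.2.1 (hkp p hp).2) (pB y)
    · obtain ⟨ha, hb⟩ := hkp p hp
      have eA : (commutator P).map pA = commutator A := by
        rw [commutator_def, Subgroup.map_commutator, Subgroup.map_top_of_surjective pA hA, ← commutator_def]
      have eB : (commutator P).map pB = commutator B := by
        rw [commutator_def, Subgroup.map_commutator, Subgroup.map_top_of_surjective pB hB, ← commutator_def]
      obtain ⟨u, hu, hua⟩ := show pA p ∈ (commutator P).map pA from eA ▸ hσ.2.2 ha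
      obtain ⟨v, hv, hvb⟩ := show pB p ∈ (commutator P).map pB from eB ▸ hτ.2.2 hb
      have hu' : pB u ∈ τ.ker :=
        MonoidHom.mem_ker.mpr ((show σ (pA u) = τ (pB u) from u.2).symm.trans (by rw [hua]; exact ha))
      have hv' : pA v ∈ σ.ker :=
        MonoidHom.mem_ker.mpr ((show σ (pA v) = τ (pB v) from v.2).trans (by rw [hvb]; exact hb))
      have e : p = u ^ 3 * v ^ 4 := by
        refine Subtype.ext (Prod.ext ?_ ?_)
        · show pA p = pA (u ^ 3 * v ^ 4)
          rw [map_mul, map_pow, map_pow, hua, show (4 : ℕ) = 2 * 2 from rfl, pow_mul, hA2 _ hv', one_pow,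
            mul_one, pow_succ, hA2 _ ha, one_mul]
        · show pB p = pB (u ^ 3 * v ^ 4)
          rw [map_mul, map_pow, map_pow, hvb, hB3 _ hu', one_mul, pow_succ, hB3 _ hb, one_mul]
      rw [e]
      exact mul_mem (pow_mem hu 3) (pow_mem hv 4)
  let e : ν.ker ≃* σ.ker × τ.ker :=
    { toFun := fun p => (⟨pA p.1, (hkp _ p.2).1⟩, ⟨pB p.1, (hkp _ p.2).2⟩)
      invFun := fun q => ⟨⟨(q.1.1, q.2.1), (MonoidHom.mem_ker.mp q.1.2).trans (MonoidHom.mem_ker.mp q.2.2).symm⟩,
        MonoidHom.mem_ker.mp q.1.2⟩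
      left_inv := fun p => rfl
      right_inv := fun q => rfl
      map_mul' := fun p q => rfl }
  haveI : Fact (Nat.Prime 2) := ⟨Nat.prime_two⟩
  haveI : Fact (Nat.Prime 3) := ⟨Nat.prime_three⟩
  haveI : IsCyclic σ.ker := isCyclic_of_prime_card h2
  haveI : IsCyclic τ.ker := isCyclic_of_prime_card h3
  haveI : IsCyclic (σ.ker × τ.ker) :=
    (Group.isCyclic_prod_iff).mpr ⟨inferInstance, inferInstance, by rw [h2, h3]; norm_num⟩
  haveI : IsCyclic ν.ker := isCyclic_of_surjective e.symm e.symm.surjective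
  have hcard : Nat.card ν.ker = 6 := by rw [Nat.card_congr e.toEquiv, Nat.card_prod, h2, h3]
  exact ⟨P, inferInstance, inferInstance, ν, hstem, ⟨((zmodCyclicMulEquiv (G := ν.ker) inferInstance).symm).trans
    (hcard ▸ MulEquiv.refl _)⟩⟩

theorem hasSchurMultiplier : Cfsg.HasCyclicSchurMultiplier Fi22 6 := by
  refine ⟨?_, fun Γ _ _ σ hσ => ?_⟩
  · haveI : Finite Fi23 := inferInstance
    obtain ⟨σ, hσ, h2⟩ := stem_of_double CfsgLib.Fi23Pres.subA_cover
    exact exists_six hσ h2 triple_stem.1 triple_stem.2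
  · obtain ⟨g, hg, h6, hle⟩ := stem_bound hσ
    exact CfsgLib.Schur.CyclicBound.exists_surjection hg h6 hle

end CfsgLib.Fi22Mult
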