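import Cfsg.Agent.Lib.Fi22Mult.Coxeter
import Cfsg.Agent.Lib.Schur.CyclicBound

/-!
The kernel of a stem extension of the presented group Fi22 is cyclic of order dividing six.
-/

set_option autoImplicit false

open scoped commutatorElement

namespace CfsgLib.Fi22Mult

open CfsgLib.CosetEnum CfsgLib.Fi22Pres Cfsg.Spor

variable {Γ : Type} [Group Γ] {π : Γ →* Fi22} {t : ℕ → Γ}

/-- the three central words -/
noncomputable def zS (t : ℕ → Γ) : Γ := prodW t spiderW ^ 10

/-- the first word of length seven -/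
noncomputable def zA (t : ℕ → Γ) : Γ := prodW t sevenA ^ 9

/-- the second word of length seven -/
noncomputable def zB (t : ℕ → Γ) : Γ := prodW t sevenB ^ 9

theorem cube_one (ht : Lifts π t) (hr : CoxRel t) (hc : π.ker ≤ Subgroup.center Γ) {i : ℕ} (hi : i < 9)
    {u p : List ℕ} {ms : List (List ℕ)} (hp : ∀ g ∈ p, g < 9) (h : cubeOK i u p ms = true)
    (hu : eqW (powWord u 3) [] = true) : prodW t p ^ 3 = 1 := by
  have e := vanishes_spec hr _ _ h
  obtain ⟨hlt, -, -⟩ := eqW_spec hu
  rw [cubeW, prodW_append, prodW_append, prodW_append, prodW_append, prodW_cons, prodW_nil, mul_one,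
    ht.rev hlt, prodW_powWord _ p.reverse, ht.rev hp, inv_pow] at e
  have hcen := ht.word_central hc hu (t i)
  have e2 : t i * prodW t (powWord u 3) * t i * (prodW t (powWord u 3))⁻¹ = 1 := by
    rw [hcen, mul_assoc _ (t i) (t i), ht.sq i hi, mul_one, mul_inv_cancel]
  rw [e2, one_mul, inv_eq_one] at e
  exact e

theorem comm_word (ht : Lifts π t) (hr : CoxRel t) {p q : List ℕ} {ms : List (List ℕ)}
    (hp : ∀ g ∈ p, g < 9) (hq : ∀ g ∈ q, g < 9) (h : commOK p q ms = true) :
    Commute (prodW t p) (prodW t q) := by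
  have e := vanishes_spec hr _ _ h
  rw [prodW_append, prodW_append, prodW_append, ht.rev hp, ht.rev hq] at e
  exact commutatorElement_eq_one_iff_commute.mp e

theorem prod_pow_three {M : Type*} [Monoid M] : ∀ l : List M, (∀ a ∈ l, a ^ 3 = 1) →
    (∀ a ∈ l, ∀ b ∈ l, Commute a b) → l.prod ^ 3 = 1
  | [], _, _ => by simp
  | a :: l, h3, hc => by
    have hal : Commute a l.prod := Commute.list_prod_right l a fun b hb =>
      hc a List.mem_cons_self b (List.mem_cons_of_mem _ hb)
    rw [List.prod_cons, hal.mul_pow, h3 a List.mem_cons_self, one_mul]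
    exact prod_pow_three l (fun b hb => h3 b (List.mem_cons_of_mem _ hb)) fun b hb c hc' =>
      hc b (List.mem_cons_of_mem _ hb) c (List.mem_cons_of_mem _ hc')

theorem tr_lt : ([trP0, trP1, trP2, trP3, trP4, trP5].all fun p => p.all fun g => Nat.blt g 9) = true := by
  decide +kernel

theorem zS_cube (ht : Lifts π t) (hr : CoxRel t) (hc : π.ker ≤ Subgroup.center Γ) : zS t ^ 3 = 1 := by
  have hlt := tr_lt
  simp only [List.all_eq_true, List.mem_cons, List.not_mem_nil, or_false, forall_eq_or_imp, forall_eq,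
    Nat.blt_eq] at hlt
  obtain ⟨l0, l1, l2, l3, l4, l5⟩ := hlt
  have hu := trU_one
  simp only [List.all_eq_true, List.mem_cons, List.not_mem_nil, or_false, forall_eq_or_imp, forall_eq] at hu
  obtain ⟨u0, u1, u2, u3, u4, u5⟩ := hu
  set T0 := prodW t trP0
  set T1 := prodW t trP1
  set T2 := prodW t trP2
  set T3 := prodW t trP3
  set T4 := prodW t trP4
  set T5 := prodW t trP5
  have c0 : T0 ^ 3 = 1 := cube_one ht hr hc (by norm_num) l0 cube0_ok u0
  have c1 : T1 ^ 3 = 1 := cube_one ht hr hc (by norm_num) l1 cube1_ok u1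
  have c2 : T2 ^ 3 = 1 := cube_one ht hr hc (by norm_num) l2 cube2_ok u2
  have c3 : T3 ^ 3 = 1 := cube_one ht hr hc (by norm_num) l3 cube3_ok u3
  have c4 : T4 ^ 3 = 1 := cube_one ht hr hc (by norm_num) l4 cube4_ok u4
  have c5 : T5 ^ 3 = 1 := cube_one ht hr hc (by norm_num) l5 cube5_ok u5
  have k01 : Commute T0 T1 := comm_word ht hr l0 l1 comm01_ok
  have k02 : Commute T0 T2 := comm_word ht hr l0 l2 comm02_ok
  have k03 : Commute T0 T3 := comm_word ht hr l0 l3 comm03_ok
  have k04 : Commute T0 T4 := comm_word ht hr l0 l4 comm04_ok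
  have k05 : Commute T0 T5 := comm_word ht hr l0 l5 comm05_ok
  have k12 : Commute T1 T2 := comm_word ht hr l1 l2 comm12_ok
  have k13 : Commute T1 T3 := comm_word ht hr l1 l3 comm13_ok
  have k14 : Commute T1 T4 := comm_word ht hr l1 l4 comm14_ok
  have k15 : Commute T1 T5 := comm_word ht hr l1 l5 comm15_ok
  have k23 : Commute T2 T3 := comm_word ht hr l2 l3 comm23_ok
  have k24 : Commute T2 T4 := comm_word ht hr l2 l4 comm24_ok
  have k25 : Commute T2 T5 := comm_word ht hr l2 l5 comm25_ok
  have k34 : Commute T3 T4 := comm_word ht hr l3 l4 comm34_ok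
  have k35 : Commute T3 T5 := comm_word ht hr l3 l5 comm35_ok
  have k45 : Commute T4 T5 := comm_word ht hr l4 l5 comm45_ok
  have e := vanishes_spec hr _ _ spider_ok
  simp only [spiderFactors, List.flatten_cons, List.flatten_nil, prodW_append, prodW_nil, mul_one,
    prodW_powWord, ht.rev l0, ht.rev l1, ht.rev l2] at e
  rw [zS, eq_inv_of_mul_eq_one_left e, inv_pow, inv_eq_one]
  rw [show T0⁻¹ * (T0⁻¹ * (T0⁻¹ * (T1⁻¹ * (T1⁻¹ * (T1⁻¹ * (T2⁻¹ * (T3 * (T4 * (T5 * T5))))))))) =
    [T0⁻¹, T0⁻¹, T0⁻¹, T1⁻¹, T1⁻¹, T1⁻¹, T2⁻¹, T3, T4, T5, T5].prod by simp]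
  refine prod_pow_three _ (fun a ha => ?_) (fun a ha b hb => ?_)
  · simp only [List.mem_cons, List.not_mem_nil, or_false] at ha
    rcases ha with rfl | rfl | rfl | rfl | rfl | rfl | rfl | rfl | rfl | rfl | rfl <;>
      simp [inv_pow, c0, c1, c2, c3, c4, c5]
  · simp only [List.mem_cons, List.not_mem_nil, or_false] at ha hb
    rcases ha with rfl | rfl | rfl | rfl | rfl | rfl | rfl | rfl | rfl | rfl | rfl <;>
      rcases hb with rfl | rfl | rfl | rfl | rfl | rfl | rfl | rfl | rfl | rfl | rfl <;>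
      (try simp only [Commute.inv_left_iff, Commute.inv_right_iff]) <;>
      first
        | exact Commute.refl _
        | assumption
        | (apply Commute.symm; assumption)

theorem seven_sq (hr : CoxRel t) {ms : List (List ℕ)} {w : List ℕ}
    (h : vanishes (glue ms) (powWord w 18) = true) : (prodW t w ^ 9) * (prodW t w ^ 9) = 1 := by
  rw [← pow_add, ← prodW_powWord]
  exact vanishes_spec hr _ _ h

theorem zS_ker (ht : Lifts π t) : π (zS t) = 1 := by
  obtain ⟨hlt, -, e⟩ := eqW_spec spider_one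
  rw [zS, ← prodW_powWord, ht.map_word hlt, e, prodW_nil]

theorem zA_ker (ht : Lifts π t) : π (zA t) = 1 := by
  obtain ⟨hlt, -, e⟩ := eqW_spec sevenA_one
  rw [zA, ← prodW_powWord, ht.map_word hlt, e, prodW_nil]

theorem zB_ker (ht : Lifts π t) : π (zB t) = 1 := by
  obtain ⟨hlt, -, e⟩ := eqW_spec sevenB_one
  rw [zB, ← prodW_powWord, ht.map_word hlt, e, prodW_nil]

/-- the kernel part of the commutator subgroup lies in a cyclic group of order dividing six -/
theorem kernel_cyclic (hπ : Function.Surjective π) (hc : π.ker ≤ Subgroup.center Γ) (ht : Lifts π t)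
    (hr : CoxRel t) :
    (zS t * zA t * zB t) ^ 6 = 1 ∧
      ∀ e ∈ commutator Γ, π e = 1 → e ∈ Subgroup.zpowers (zS t * zA t * zB t) := by
  have hcen : ∀ {z : Γ}, π z = 1 → ∀ x, x * z = z * x := fun hz x =>
    Subgroup.mem_center_iff.mp (hc hz) x
  have cS := hcen (zS_ker ht)
  have cA := hcen (zA_ker ht)
  have cB := hcen (zB_ker ht)
  have hS := zS_cube ht hr hc
  have hA : zA t * zA t = 1 := seven_sq hr sevenA_ok
  have hB : zB t * zB t = 1 := seven_sq hr sevenB_ok
  have hAB2 : (zA t * zB t) ^ 2 = 1 := by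
    rw [(show Commute (zA t) (zB t) from cB _).mul_pow, pow_two, pow_two, hA, hB, one_mul]
  set w := zS t * zA t * zB t with hw
  have hwS : ∀ n : ℕ, w ^ n = zS t ^ n * (zA t * zB t) ^ n := fun n => by
    rw [hw, mul_assoc]
    exact (show Commute (zS t) (zA t * zB t) from (cS _).symm).mul_pow n
  have w4 : w ^ 4 = zS t := by
    rw [hwS, show (4 : ℕ) = 2 * 2 from rfl, pow_mul (zA t * zB t), hAB2, one_pow, mul_one,
      show 2 * 2 = 3 + 1 from rfl, pow_succ, hS, one_mul]
  have w3 : w ^ 3 = zA t * zB t := by rw [hwS, hS, one_mul, pow_succ, hAB2, one_mul]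
  refine ⟨by rw [hwS, show (6 : ℕ) = 3 * 2 from rfl, pow_mul, hS, one_pow, one_mul, pow_mul', hAB2, one_pow],
    fun e he hpe => ?_⟩
  set C := Subgroup.zpowers w with hC
  let S := Multiplicative (ZMod 2)
  let s : S := Multiplicative.ofAdd 1
  have hsS : ∀ x : S, x = 1 ∨ x = s := by decide
  have h1s : (1 : S) ≠ s := by decide
  have hs1 : s ≠ 1 := by decide
  have hss : s * s = 1 := by decide
  -- the subgroup generated by the lifts with signs
  let h : ℕ → Γ × S := fun g => if g < 9 then (t g, s) else 1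
  have hh : ∀ g < 9, h g = (t g, s) := fun g hg => if_pos hg
  let H : Subgroup (Γ × S) := Subgroup.closure (Set.range h)
  let hH : ℕ → H := fun g => ⟨h g, Subgroup.subset_closure (Set.mem_range_self g)⟩
  have hval : ∀ v : List ℕ, (∀ g ∈ v, g < 9) →
      ((prodW hH v : H) : Γ × S) = (prodW t v, s ^ v.length) := by
    intro v hv
    induction v with
    | nil => rfl
    | cons x v ih =>
      rw [prodW_cons, prodW_cons, Subgroup.coe_mul, ih fun g hg => hv g (List.mem_cons_of_mem _ hg),
        show ((hH x : H) : Γ × S) = (t x, s) from hh x (hv x List.mem_cons_self), Prod.mk_mul_mk,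
        List.length_cons, pow_succ']
  let T : Subgroup (Γ × S) :=
    { carrier := {p | (p.2 = 1 → p.1 ∈ C) ∧ (p.2 = s → p.1 * zB t ∈ C)}
      one_mem' := ⟨fun _ => one_mem C, fun he => absurd he h1s⟩
      mul_mem' := by
        rintro ⟨a, x⟩ ⟨b, y⟩ ⟨ha1, ha2⟩ ⟨hb1, hb2⟩
        rcases hsS x with rfl | rfl <;> rcases hsS y with rfl | rfl
        · exact ⟨fun _ => mul_mem (ha1 rfl) (hb1 rfl), fun he => absurd he h1s⟩
        · refine ⟨fun he => absurd he hs1, fun _ => ?_⟩
          have := mul_mem (ha1 rfl) (hb2 rfl)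
          simpa [mul_assoc] using this
        · refine ⟨fun he => absurd he hs1, fun _ => ?_⟩
          have := mul_mem (ha2 rfl) (hb1 rfl)
          simpa [mul_assoc, cB b] using this
        · refine ⟨fun _ => ?_, fun he => absurd ((hss.symm).trans he) h1s⟩
          have := mul_mem (ha2 rfl) (hb2 rfl)
          rwa [show a * zB t * (b * zB t) = a * b from by
            rw [← mul_assoc, mul_assoc a (zB t) b, ← cB b, ← mul_assoc, mul_assoc, hB, mul_one]] at this
      inv_mem' := by
        rintro ⟨a, x⟩ ⟨ha1, ha2⟩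
        rcases hsS x with rfl | rfl
        · exact ⟨fun _ => inv_mem (ha1 rfl), fun he => absurd ((inv_one).symm.trans he) h1s⟩
        · refine ⟨fun he => absurd he hs1, fun _ => ?_⟩
          have := inv_mem (ha2 rfl)
          rw [mul_inv_rev, inv_eq_of_mul_eq_one_right hB, ← cB] at this
          exact this }
  let K : Subgroup H := Subgroup.closure
    {prodW hH (powWord spiderW 10), prodW hH (powWord sevenA 9), prodW hH (powWord sevenB 9)}
  obtain ⟨lS, -, -⟩ := eqW_spec spider_one
  obtain ⟨lA, -, -⟩ := eqW_spec sevenA_one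
  obtain ⟨lB, -, -⟩ := eqW_spec sevenB_one
  have vS : ((prodW hH (powWord spiderW 10) : H) : Γ × S) = (zS t, 1) := by
    rw [hval _ lS, prodW_powWord, show s ^ (powWord spiderW 10).length = 1 from by decide +kernel]; rfl
  have vA : ((prodW hH (powWord sevenA 9) : H) : Γ × S) = (zA t, s) := by
    rw [hval _ lA, prodW_powWord, show s ^ (powWord sevenA 9).length = s from by decide +kernel]; rfl
  have vB : ((prodW hH (powWord sevenB 9) : H) : Γ × S) = (zB t, s) := by
    rw [hval _ lB, prodW_powWord, show s ^ (powWord sevenB 9).length = s from by decide +kernel]; rfl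
  have hKT : ∀ k : H, k ∈ K → (k : Γ × S) ∈ T ∧ π (k : Γ × S).1 = 1 := by
    intro k hk
    induction hk using Subgroup.closure_induction with
    | mem y hy =>
      rcases hy with rfl | rfl | rfl
      · rw [vS]; exact ⟨⟨fun _ => w4 ▸ pow_mem (Subgroup.mem_zpowers w) 4, fun he => absurd he h1s⟩, zS_ker ht⟩
      · rw [vA]; exact ⟨⟨fun he => absurd he hs1, fun _ => w3 ▸ pow_mem (Subgroup.mem_zpowers w) 3⟩, zA_ker ht⟩
      · rw [vB]; exact ⟨⟨fun he => absurd he hs1, fun _ => hB.symm ▸ one_mem C⟩, zB_ker ht⟩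
    | one => exact ⟨one_mem T, map_one π⟩
    | mul x y _ _ hx hy => exact ⟨mul_mem hx.1 hy.1, by simp [hx.2, hy.2]⟩
    | inv x _ hx => exact ⟨inv_mem hx.1, by simp [hx.2]⟩
  have hKc : K ≤ Subgroup.center H := fun k hk => Subgroup.mem_center_iff.mpr fun y =>
    Subtype.ext (Prod.ext (hcen (hKT k hk).2 _) (mul_comm _ _))
  haveI : K.Normal := CfsgLib.Schur.normal_of_le_center hKc
  -- the presentation
  let gi : Fi22.Gen → H ⧸ K := fun x => QuotientGroup.mk' K (hH (letters.idxOf x))
  have gsq : ∀ g < 9, hH g * hH g = 1 := fun g hg => Subtype.ext (by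
    rw [Subgroup.coe_mul, show ((hH g : H) : Γ × S) = (t g, s) from hh g hg, Prod.mk_mul_mk, hr.sq g hg, hss]
    rfl)
  have hpair : ∀ x < 9, ∀ y < 9, (hH x * hH y) ^ (if x = y then 1 else if adjB x y then 3 else 2) = 1 := by
    intro x hx y hy
    by_cases hxy : x = y
    · subst hxy; rw [if_pos rfl, pow_one]; exact gsq x hx
    rw [if_neg hxy]
    have e2 : ((hH x * hH y : H) : Γ × S) = (t x * t y, 1) := by
      rw [Subgroup.coe_mul, show ((hH x : H) : Γ × S) = (t x, s) from hh x hx,
        show ((hH y : H) : Γ × S) = (t y, s) from hh y hy, Prod.mk_mul_mk, hss]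
    apply Subtype.ext
    rw [SubmonoidClass.coe_pow, e2, Prod.pow_mk, one_pow, OneMemClass.coe_one]
    refine Prod.ext ?_ rfl
    cases hb : adjB x y
    · show (t x * t y) ^ 2 = 1
      rw [pow_two]
      calc t x * t y * (t x * t y) = t x * t y * (t y * t x) := by rw [hr.comm x hx y hy hxy hb]
        _ = 1 := by rw [mul_assoc, ← mul_assoc (t y), hr.sq y hy, one_mul, hr.sq x hx]
    · show (t x * t y) ^ 3 = 1
      have eb := hr.braid x hx y hy hb
      calc (t x * t y) ^ 3 = t x * (t y * t x) * (t y * (t x * t y)) := by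
            simp only [pow_succ, pow_zero, one_mul, mul_assoc]
        _ = t x * (t y * t x) * (t x * (t y * t x)) := by rw [eb]
        _ = 1 := by
          rw [← mul_assoc, mul_assoc (t x) (t y * t x) (t x), mul_assoc (t y), hr.sq x hx, mul_one,
            ← mul_assoc, mul_assoc (t x) (t y) (t y), hr.sq y hy, mul_one, hr.sq x hx]
  have hlab : ∀ x y : Fi22.Gen, coxLabel Fi22.edges x y =
      if letters.idxOf x = letters.idxOf y then 1
      else if adjB (letters.idxOf x) (letters.idxOf y) then 3 else 2 := by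
    intro x y; cases x <;> cases y <;> decide +kernel
  have hidx : ∀ x : Fi22.Gen, letters.idxOf x < 9 := by intro x; cases x <;> decide
  have hgisq : ∀ x, gi x * gi x = 1 := fun x => by
    simp only [gi, ← map_mul, gsq _ (hidx x), map_one]
  have hgen : ∀ g < 9, genOf letters gi g = QuotientGroup.mk' K (hH g) := fun g hg => by
    have hl : g < letters.length := hg
    rw [genOf_of_lt hl]
    simp only [gi, List.Nodup.idxOf_getElem (by decide) g hl]
  have hrel : ∀ r ∈ coxRelators Fi22.edges ∪ {r | r ∈ Fi22.extra}, FreeGroup.lift gi r = 1 := by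
    rintro r (⟨x, -, y, -, rfl⟩ | hr')
    · simp only [map_pow, map_mul, FreeGroup.lift_apply_of, hlab, gi]
      rw [← map_mul, ← map_pow, hpair _ (hidx x) _ (hidx y), map_one]
    · obtain ⟨k, hk, rfl⟩ := List.getElem_of_mem (Set.mem_ofPred_eq ▸ hr' : r ∈ Fi22.extra)
      have hlen := extraWords.length_eq
      have h2 := (List.forall₂_iff_get.mp extraWords).2 k hk (by omega)
      simp only [List.get_eq_getElem] at h2
      rw [h2 _ gi hgisq]
      have hk3 : k < 3 := hk
      have hmap : ∀ v : List ℕ, (∀ g ∈ v, g < 9) → prodW hH v ∈ K → prodW (genOf letters gi) v = 1 := by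
        intro v hv hvK
        rw [prodW_congr (gen' := fun g => QuotientGroup.mk' K (hH g)) fun g hg => hgen g (hv g hg),
          ← map_prodW]
        exact (QuotientGroup.eq_one_iff _).mpr hvK
      interval_cases k
      · exact hmap _ lS (Subgroup.subset_closure (Or.inl rfl))
      · exact hmap _ lA (Subgroup.subset_closure (Or.inr (Or.inl rfl)))
      · exact hmap _ lB (Subgroup.subset_closure (Or.inr (Or.inr rfl)))
  let ψ : Fi22 →* H ⧸ K := PresentedGroup.toGroup hrel
  have hψ : Function.Surjective ψ := by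
    suffices htop : ∀ y : H, QuotientGroup.mk' K y ∈ ψ.range by
      intro q
      obtain ⟨y, rfl⟩ := QuotientGroup.mk'_surjective K q
      exact htop y
    intro y
    have key : ∀ p (hp : p ∈ H), QuotientGroup.mk' K ⟨p, hp⟩ ∈ ψ.range := by
      intro p hp
      induction hp using Subgroup.closure_induction with
      | mem p hp =>
        obtain ⟨g, rfl⟩ := hp
        by_cases hg : g < 9
        · refine ⟨PresentedGroup.of (letters[g]'hg), ?_⟩
          rw [PresentedGroup.toGroup.of]
          exact congrArg _ (congrArg hH (List.Nodup.idxOf_getElem (by decide : letters.Nodup) g hg))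
        · refine ⟨1, ?_⟩
          rw [map_one]
          refine ((congrArg _ (Subtype.ext ?_)).trans (map_one _)).symm
          exact if_neg hg
      | one => exact ⟨1, (map_one ψ).trans (map_one (QuotientGroup.mk' K)).symm⟩
      | mul a b ha hb iha ihb =>
        have := mul_mem iha ihb
        rwa [← map_mul] at this
      | inv a ha iha =>
        have := inv_mem iha
        rwa [← map_inv] at this
    exact key y.1 y.2
  let pH : H →* Fi22 := π.comp ((MonoidHom.fst Γ S).comp H.subtype)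
  let ρ : H ⧸ K →* Fi22 := QuotientGroup.lift K pH fun k hk => (hKT k hk).2
  have hρψ : ρ.comp ψ = MonoidHom.id Fi22 := by
    refine PresentedGroup.ext fun x => ?_
    rw [MonoidHom.comp_apply, PresentedGroup.toGroup.of, MonoidHom.id_apply]
    show π ((hH (letters.idxOf x) : H) : Γ × S).1 = _
    rw [show ((hH (letters.idxOf x) : H) : Γ × S) = (t _, s) from hh _ (hidx x), ht.proj _ (hidx x)]
    cases x <;> rfl
  -- lifting the element
  let p1 : H →* Γ := (MonoidHom.fst Γ S).comp H.subtype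
  let H1 := p1.range
  have hH1 : ∀ x : Γ, ∃ y : H, ∃ z ∈ Subgroup.center Γ, x = p1 y * z := by
    intro x
    obtain ⟨y, hy⟩ := QuotientGroup.mk'_surjective K (ψ (π x))
    have hy2 : π (p1 y) = π x := by
      have := congrArg ρ hy
      rwa [show ρ (ψ (π x)) = π x from DFunLike.congr_fun hρψ (π x)] at this
    exact ⟨y, (p1 y)⁻¹ * x, hc (by rw [MonoidHom.mem_ker, map_mul, map_inv, hy2, inv_mul_cancel]), by group⟩
  have hle : commutator Γ ≤ (commutator H).map p1 := by
    rw [commutator_def, Subgroup.commutator_le]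
    intro x _ x' _
    obtain ⟨y, z, hz, rfl⟩ := hH1 x
    obtain ⟨y', z', hz', rfl⟩ := hH1 x'
    have e1 : ⁅p1 y * z, p1 y' * z'⁆ = ⁅p1 y, p1 y'⁆ := by
      refine CfsgLib.Schur.commutatorElement_congr (QuotientGroup.mk' (Subgroup.center Γ)) ?_ ?_ ?_
      · rw [QuotientGroup.ker_mk']
      · rw [map_mul, show QuotientGroup.mk' (Subgroup.center Γ) z = 1 from (QuotientGroup.eq_one_iff z).mpr hz,
          mul_one]
      · rw [map_mul, show QuotientGroup.mk' (Subgroup.center Γ) z' = 1 from (QuotientGroup.eq_one_iff z').mpr hz',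
          mul_one]
    rw [e1, ← map_commutatorElement]
    exact ⟨⁅y, y'⁆, Subgroup.commutator_mem_commutator (Subgroup.mem_top y) (Subgroup.mem_top y'), rfl⟩
  obtain ⟨y, hy, rfl⟩ := hle he
  have hy2 : (y : Γ × S).2 = 1 := by
    have h2 : y ∈ ((MonoidHom.snd Γ S).comp H.subtype).ker :=
      Abelianization.commutator_subset_ker _ hy
    exact h2
  have hq : QuotientGroup.mk' K y = 1 := by
    obtain ⟨x, hx⟩ := hψ (QuotientGroup.mk' K y)
    have : ρ (ψ x) = 1 := by rw [hx]; exact hpe
    rw [show ρ (ψ x) = x from DFunLike.congr_fun hρψ x] at this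
    rw [← hx, this, map_one]
  exact (hKT y ((QuotientGroup.eq_one_iff y).mp hq)).1.1 hy2

/-- a stem extension has cyclic kernel of order dividing six -/
theorem stem_bound {E : Type} [Group E] [Finite E] {σ : E →* Fi22} (hσ : Cfsg.IsStemExtension σ) :
    ∃ g ∈ σ.ker, g ^ 6 = 1 ∧ σ.ker ≤ Subgroup.zpowers g := by
  obtain ⟨hs, hcE, hcom⟩ := hσ
  choose q hq using fun g => hs (gen g)
  let y0 := q 0
  set s := y0 * y0 with hsdef
  have hsk : σ s = 1 := by rw [hsdef, map_mul, hq 0, gen_sq]
  have hscen : ∀ x, x * s = s * x := fun x => Subgroup.mem_center_iff.mp (hcE hsk) x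
  -- lifts with one and the same square
  have step : ∀ (p v : E) (i j : ℕ), σ p = gen i → p * p = s → σ v = gen j → (gen i * gen j) ^ 3 = 1 →
      ∃ r : E, σ r = gen j ∧ r * r = s := by
    intro p v i j hp hp2 hv h3
    refine ⟨p * v * p * (p * v)⁻¹, ?_, ?_⟩
    · have hi := gen_sq i
      have hj := gen_sq j
      simp only [map_mul, map_inv, hp, hv]
      rw [mul_inv_rev, inv_eq_of_mul_eq_one_right hi, inv_eq_of_mul_eq_one_right hj]
      have e : gen i * gen j * gen i * (gen j * gen i) * gen j = 1 := by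
        rw [← h3]; simp only [pow_succ, pow_zero, one_mul, mul_assoc]
      have e' := eq_inv_of_mul_eq_one_left e
      rwa [inv_eq_of_mul_eq_one_right hj] at e'
    · calc p * v * p * (p * v)⁻¹ * (p * v * p * (p * v)⁻¹) = p * v * (p * p) * (p * v)⁻¹ := by group
        _ = s := by rw [hp2, hscen, mul_inv_cancel_right]
  obtain ⟨y1, a1, b1⟩ := step y0 _ 0 1 (hq 0) rfl (hq 1) (gen_edge (by simp))
  obtain ⟨y2, a2, b2⟩ := step y1 _ 1 2 a1 b1 (hq 2) (gen_edge (by simp))
  obtain ⟨y3, a3, b3⟩ := step y2 _ 2 3 a2 b2 (hq 3) (gen_edge (by simp))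
  obtain ⟨y4, a4, b4⟩ := step y3 _ 3 4 a3 b3 (hq 4) (gen_edge (by simp))
  obtain ⟨y5, a5, b5⟩ := step y4 _ 4 5 a4 b4 (hq 5) (gen_edge (by simp))
  obtain ⟨y6, a6, b6⟩ := step y5 _ 5 6 a5 b5 (hq 6) (gen_edge (by simp))
  obtain ⟨y7, a7, b7⟩ := step y3 _ 3 7 a3 b3 (hq 7) (gen_edge (by simp))
  obtain ⟨y8, a8, b8⟩ := step y7 _ 7 8 a7 b7 (hq 8) (gen_edge (by simp))
  let y : ℕ → E := fun g => [y0, y1, y2, y3, y4, y5, y6, y7, y8].getD g 1
  have hy : ∀ g < 9, σ (y g) = gen g ∧ y g * y g = s := by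
    intro g hg
    interval_cases g
    exacts [⟨hq 0, rfl⟩, ⟨a1, b1⟩, ⟨a2, b2⟩, ⟨a3, b3⟩, ⟨a4, b4⟩, ⟨a5, b5⟩, ⟨a6, b6⟩, ⟨a7, b7⟩, ⟨a8, b8⟩]
  -- adjoin a square root of s⁻¹
  set m := orderOf s with hm
  haveI : NeZero (2 * m) := ⟨by have := orderOf_pos s; omega⟩
  let M := Multiplicative (ZMod (2 * m))
  let μ : M := Multiplicative.ofAdd 1
  let P := E × M
  let n0 : P := (s, μ ^ 2)
  have hn0 : n0 ∈ Subgroup.center P := Subgroup.mem_center_iff.mpr fun x =>
    Prod.ext (hscen x.1) (mul_comm _ _)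
  let N : Subgroup P := Subgroup.zpowers n0
  haveI : N.Normal := CfsgLib.Schur.normal_of_le_center ((Subgroup.zpowers_le).mpr hn0)
  have hNk : N ≤ (σ.comp (MonoidHom.fst E M)).ker := (Subgroup.zpowers_le).mpr hsk
  let π : P ⧸ N →* Fi22 := QuotientGroup.lift N (σ.comp (MonoidHom.fst E M)) hNk
  let ι : E →* P ⧸ N := (QuotientGroup.mk' N).comp (MonoidHom.inl E M)
  have hι : Function.Injective ι := by
    rw [injective_iff_map_eq_one]
    intro e he
    obtain ⟨k, hk⟩ := Subgroup.mem_zpowers_iff.mp ((QuotientGroup.eq_one_iff _).mp he)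
    have h1 : s ^ k = e := congrArg Prod.fst hk
    have h2 : (μ ^ 2) ^ k = 1 := congrArg Prod.snd hk
    have ho : orderOf μ = 2 * m := by
      rw [orderOf_ofAdd_eq_addOrderOf, ZMod.addOrderOf_one]
    have h3 : ((2 * m : ℕ) : ℤ) ∣ 2 * k := by
      rw [← ho, orderOf_dvd_iff_zpow_eq_one, zpow_mul, zpow_ofNat]
      exact h2
    have h4 : (m : ℤ) ∣ k := by
      rw [Nat.cast_mul] at h3
      exact Int.dvd_of_mul_dvd_mul_left (by norm_num) h3
    rw [← h1]
    exact orderOf_dvd_iff_zpow_eq_one.mp h4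
  have hπ : Function.Surjective π := fun g => by
    obtain ⟨e, rfl⟩ := hs g
    exact ⟨ι e, rfl⟩
  have hc : π.ker ≤ Subgroup.center (P ⧸ N) := by
    intro q' hq'
    obtain ⟨⟨e, u⟩, rfl⟩ := QuotientGroup.mk'_surjective N q'
    refine Subgroup.mem_center_iff.mpr fun r => ?_
    obtain ⟨⟨e', u'⟩, rfl⟩ := QuotientGroup.mk'_surjective N r
    rw [← map_mul, ← map_mul]
    exact congrArg _ (Prod.ext (Subgroup.mem_center_iff.mp (hcE hq') e') (mul_comm _ _))
  let f : ℕ → P ⧸ N := fun g => QuotientGroup.mk' N (y g, μ)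
  have hf : Lifts π f := by
    refine ⟨fun g hg => (hy g hg).1, fun g hg => ?_⟩
    rw [← map_mul]
    refine (QuotientGroup.eq_one_iff _).mpr ?_
    rw [Prod.mk_mul_mk, (hy g hg).2, ← pow_two]
    exact Subgroup.mem_zpowers n0
  obtain ⟨t, ht, hr⟩ := exists_cox hc hf
  obtain ⟨h6, hk⟩ := kernel_cyclic hπ hc ht hr
  set w := zS t * zA t * zB t
  let J := Subgroup.zpowers w
  have hker : ∀ z ∈ σ.ker, ι z ∈ J := fun z hz => hk _ (by
    have := Subgroup.mem_map_of_mem ι (hcom hz)
    rw [commutator_def, Subgroup.map_commutator] at this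
    rw [commutator_def]
    exact Subgroup.commutator_mono le_top le_top this) hz
  have hcyc : IsCyclic σ.ker :=
    isCyclic_of_injective (G := σ.ker) (G' := J)
      ((ι.comp σ.ker.subtype).codRestrict J fun z => hker z z.2) (fun a b hab => by
        have := congrArg Subtype.val hab
        exact Subtype.ext (hι this))
  obtain ⟨g0, hg0⟩ := hcyc.exists_generator
  refine ⟨g0, g0.2, hι ?_, fun z hz => ?_⟩
  · rw [map_pow, map_one]
    obtain ⟨k, hk'⟩ := Subgroup.mem_zpowers_iff.mp (hker g0 g0.2)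
    rw [← hk', ← zpow_natCast, ← zpow_mul, mul_comm k, zpow_mul, zpow_natCast, h6, one_zpow]
  · obtain ⟨k, hk'⟩ := Subgroup.mem_zpowers_iff.mp (hg0 ⟨z, hz⟩)
    exact ⟨k, congrArg Subtype.val hk'⟩

end CfsgLib.Fi22Mult
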