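import Cfsg.Agent.Lib.Fi22Mult.WordChecks
import Cfsg.Agent.Lib.Schur.Hopf

/-!
In a central extension of the presented group Fi22 with involutions over the nine generators, the
lifts of commuting generators commute, and after central adjustments the braid relations hold.
-/

set_option autoImplicit false

open scoped commutatorElement

namespace CfsgLib.Fi22Mult

open CfsgLib.CosetEnum CfsgLib.Fi22Pres Cfsg.Spor

variable {Γ : Type*} [Group Γ] {π : Γ →* Fi22}

/-- involutions over the generators -/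
structure Lifts (π : Γ →* Fi22) (f : ℕ → Γ) : Prop where
  proj : ∀ g < 9, π (f g) = gen g
  sq : ∀ g < 9, f g * f g = 1

theorem Lifts.map_word {f : ℕ → Γ} (hf : Lifts π f) {w : List ℕ} (hw : ∀ g ∈ w, g < 9) :
    π (prodW f w) = prodW gen w := by
  rw [map_prodW]
  exact prodW_congr fun g hg => hf.proj g (hw g hg)

theorem prodW_rev {G : Type*} [Group G] {f : ℕ → G} :
    ∀ {w : List ℕ}, (∀ g ∈ w, f g * f g = 1) → prodW f w.reverse = (prodW f w)⁻¹
  | [], _ => by simp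
  | x :: w, h => by
    rw [List.reverse_cons, prodW_append, prodW_rev fun g hg => h g (List.mem_cons_of_mem _ hg), prodW_cons,
      prodW_cons, prodW_nil, mul_one, mul_inv_rev,
      inv_eq_of_mul_eq_one_right (h x List.mem_cons_self)]

theorem Lifts.rev {f : ℕ → Γ} (hf : Lifts π f) {w : List ℕ} (hw : ∀ g ∈ w, g < 9) :
    prodW f w.reverse = (prodW f w)⁻¹ := prodW_rev fun g hg => hf.sq g (hw g hg)

theorem Lifts.word_central {f : ℕ → Γ} (hf : Lifts π f) (hc : π.ker ≤ Subgroup.center Γ) {w : List ℕ}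
    (h : eqW w [] = true) (x : Γ) : x * prodW f w = prodW f w * x := by
  obtain ⟨hw, -, e⟩ := eqW_spec h
  refine Subgroup.mem_center_iff.mp (hc ?_) x
  rw [MonoidHom.mem_ker, hf.map_word hw, e, prodW_nil]

theorem gen_comm02 : gen 0 * gen 2 = gen 2 * gen 0 := by
  have h := of_pair (extra := Fi22.extra) (nodes Fi22.Gen.a) (nodes Fi22.Gen.c)
  have hl : coxLabel Fi22.edges Fi22.Gen.a Fi22.Gen.c = 2 := by decide
  rw [hl, pow_two] at h
  have e := eq_inv_of_mul_eq_one_left h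
  rwa [mul_inv_rev, inv_eq_of_mul_eq_one_right (of_sq (nodes _)),
    inv_eq_of_mul_eq_one_right (of_sq (nodes _))] at e

theorem comm_central {f : ℕ → Γ} (hf : Lifts π f) (hc : π.ker ≤ Subgroup.center Γ) (x : Γ) :
    x * ⁅f 0, f 2⁆ = ⁅f 0, f 2⁆ * x := by
  refine Subgroup.mem_center_iff.mp (hc ?_) x
  rw [MonoidHom.mem_ker, map_commutatorElement, hf.proj 0 (by norm_num), hf.proj 2 (by norm_num),
    commutatorElement_eq_one_iff_commute]
  exact gen_comm02

theorem pair_eq {f : ℕ → Γ} (hf : Lifts π f) (hc : π.ker ≤ Subgroup.center Γ) {u v w : List ℕ}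
    (h : pairOK u v w = true) : ⁅prodW f u, prodW f v⁆ = ⁅f 0, f 2⁆ := by
  rw [pairOK, Bool.and_eq_true] at h
  obtain ⟨h1, -, e1⟩ := eqW_spec h.1
  obtain ⟨h2, -, e2⟩ := eqW_spec h.2
  have hw : ∀ g ∈ w, g < 9 := fun g hg => h1 g (List.mem_append_right _ hg)
  set P := prodW f w with hP
  have k1 : π (P⁻¹ * prodW f u * P) = π (f 0) := by
    rw [hP, ← hf.rev hw, ← prodW_append, ← prodW_append, hf.map_word h1, e1, hf.proj 0 (by norm_num)]
    simp
  have k2 : π (P⁻¹ * prodW f v * P) = π (f 2) := by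
    rw [hP, ← hf.rev hw, ← prodW_append, ← prodW_append, hf.map_word h2, e2, hf.proj 2 (by norm_num)]
    simp
  have k := CfsgLib.Schur.commutatorElement_congr π hc k1 k2
  have e : ⁅P⁻¹ * prodW f u * P, P⁻¹ * prodW f v * P⁆ = P⁻¹ * ⁅prodW f u, prodW f v⁆ * P := by
    simp only [commutatorElement_def]; group
  rw [e] at k
  calc ⁅prodW f u, prodW f v⁆ = P * (P⁻¹ * ⁅prodW f u, prodW f v⁆ * P) * P⁻¹ := by group
    _ = P * ⁅f 0, f 2⁆ * P⁻¹ := by rw [k]
    _ = ⁅f 0, f 2⁆ := by rw [comm_central hf hc P, mul_inv_cancel_right]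

theorem comm_sq {f : ℕ → Γ} (hf : Lifts π f) (hc : π.ker ≤ Subgroup.center Γ) :
    ⁅f 0, f 2⁆ * ⁅f 0, f 2⁆ = 1 := by
  have hi : ∀ g < 9, (f g)⁻¹ = f g := fun g hg => inv_eq_of_mul_eq_one_right (hf.sq g hg)
  have h : f 0 * ⁅f 0, f 2⁆ * f 0 = ⁅f 0, f 2⁆⁻¹ := by
    have e2 : ⁅f 0, f 2⁆⁻¹ = f 2 * f 0 * (f 2)⁻¹ * (f 0)⁻¹ := by rw [commutatorElement_def]; group
    rw [e2, commutatorElement_def, hi 0 (by norm_num), hi 2 (by norm_num)]
    calc f 0 * (f 0 * f 2 * f 0 * f 2) * f 0 = f 0 * f 0 * (f 2 * f 0 * f 2 * f 0) := by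
          simp only [mul_assoc]
      _ = f 2 * f 0 * f 2 * f 0 := by rw [hf.sq 0 (by norm_num), one_mul]
  rw [comm_central hf hc (f 0), mul_assoc, hf.sq 0 (by norm_num), mul_one] at h
  exact mul_eq_one_iff_eq_inv.mpr h

theorem pass_list {a c : Γ} (hc : ∀ x, x * c = c * x) :
    ∀ l : List Γ, (∀ D ∈ l, a * D = c * (D * a)) → a * l.prod = c ^ l.length * (l.prod * a)
  | [], _ => by simp
  | D :: l, h => by
    have IH := pass_list hc l fun y hy => h y (List.mem_cons_of_mem _ hy)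
    have hcc : ∀ k (x : Γ), x * c ^ k = c ^ k * x := fun k x => (show Commute x c from hc x).pow_right k
    rw [List.prod_cons, List.length_cons, ← mul_assoc, h D List.mem_cons_self, mul_assoc, mul_assoc, IH,
      ← mul_assoc D, hcc, pow_succ']
    simp only [mul_assoc]

theorem comm_one {f : ℕ → Γ} (hf : Lifts π f) (hc : π.ker ≤ Subgroup.center Γ) : ⁅f 0, f 2⁆ = 1 := by
  set c := ⁅f 0, f 2⁆ with hcdef
  set P := ((sixData.map Prod.fst).map (prodW f)).prod with hP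
  have hflat : ∀ L : List (List ℕ), prodW f L.flatten = (L.map (prodW f)).prod := by
    intro L
    induction L with
    | nil => simp
    | cons u L ih => rw [List.flatten_cons, prodW_append, List.map_cons, List.prod_cons, ih]
  have hcen := hf.word_central hc six_prod (f 0)
  rw [prodW_append, hflat, ← hP, prodW_cons, prodW_nil, mul_one] at hcen
  have hpass := pass_list (comm_central hf hc) ((sixData.map Prod.fst).map (prodW f)) (a := f 0) ?_
  · rw [← hP] at hpass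
    have e1 : f 0 * P = P * f 0 := mul_left_cancel (a := f 0) (by rw [hcen, mul_assoc])
    rw [e1, ← hcdef] at hpass
    have h5 : c ^ 5 = 1 := by
      have hlen : ((sixData.map Prod.fst).map (prodW f)).length = 5 := by
        simp only [List.length_map]; rfl
      rw [hlen] at hpass
      exact mul_eq_right.mp hpass.symm
    have h2 : c ^ 2 = 1 := by rw [pow_two]; exact comm_sq hf hc
    rw [show (5 : ℕ) = 2 * 2 + 1 from rfl, pow_succ, pow_mul, h2, one_pow, one_mul] at h5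
    exact h5
  · intro D hD
    obtain ⟨u, hu, rfl⟩ := List.mem_map.mp hD
    obtain ⟨d, hd, rfl⟩ := List.mem_map.mp hu
    have hk := six_ok
    rw [List.all_eq_true] at hk
    have e := pair_eq hf hc (hk d hd)
    rw [prodW_cons, prodW_nil, mul_one] at e
    rw [← e, commutatorElement_def]
    group

theorem lifts_comm {f : ℕ → Γ} (hf : Lifts π f) (hc : π.ker ≤ Subgroup.center Γ) :
    ∀ x < 9, ∀ y < 9, x ≠ y → adjB x y = false → f x * f y = f y * f x := by
  have key : ∀ x < 9, ∀ y < 9, x < y → adjB x y = false → f x * f y = f y * f x := by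
    intro x hx y hy hxy hadj
    have h := pairs_cover x hx y hy hxy hadj
    obtain ⟨d, hd, hd'⟩ := List.any_eq_true.mp h
    rw [Bool.and_eq_true] at hd'
    have hk := pairs_ok
    rw [List.all_eq_true] at hk
    have e := pair_eq hf hc (hk d hd)
    rw [Nat.eq_of_beq_eq_true hd'.1, Nat.eq_of_beq_eq_true hd'.2, comm_one hf hc] at e
    simpa using (commutatorElement_eq_one_iff_commute.mp e).eq
  intro x hx y hy hne hadj
  rcases lt_or_gt_of_ne hne with h | h
  · exact key x hx y hy h hadj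
  · refine (key y hy x hx h ?_).symm
    simpa [adjB, Nat.min_comm, Nat.max_comm] using hadj

/-- the central adjustment of `q` along an edge from `p` -/
def adjust (p q : Γ) : Γ := q * (p * q) ^ 3

theorem adjust_spec {p q : Γ} (hp : p * p = 1) (hq : q * q = 1) (hcen : ∀ x, x * (p * q) ^ 3 = (p * q) ^ 3 * x) :
    adjust p q * adjust p q = 1 ∧ (p * adjust p q) ^ 3 = 1 := by
  set z := (p * q) ^ 3 with hz
  have hinv : z * z = 1 := by
    have h1 : p * z * p = z := by rw [hcen p, mul_assoc, hp, mul_one]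
    have h2 : p * z * p = (q * p) ^ 3 := by
      calc p * z * p = p * p * (q * p) ^ 3 := by rw [hz]; simp only [pow_succ, pow_zero, one_mul, mul_assoc]
        _ = (q * p) ^ 3 := by rw [hp, one_mul]
    have h3 : (q * p) ^ 3 = z⁻¹ := by
      rw [hz, ← inv_pow, mul_inv_rev, inv_eq_of_mul_eq_one_right hp, inv_eq_of_mul_eq_one_right hq]
    exact mul_eq_one_iff_eq_inv.mpr (h1.symm.trans (h2.trans h3))
  have hzq : Commute (p * q) z := hcen _
  constructor
  · rw [adjust, ← hz, mul_assoc, ← mul_assoc z, ← hcen q, mul_assoc, hinv, mul_one, hq]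
  · rw [adjust, ← hz, ← mul_assoc, hzq.mul_pow, ← hz, pow_succ z 2, pow_two, hinv, one_mul, hinv]

theorem braid_of_pow {p q : Γ} (hp : p * p = 1) (hq : q * q = 1) (h : (p * q) ^ 3 = 1) :
    p * (q * p) = q * (p * q) := by
  have e : p * q * p = (q * p * q)⁻¹ := eq_inv_of_mul_eq_one_left (by
    rw [← h]; simp only [pow_succ, pow_zero, one_mul, mul_assoc])
  rw [mul_inv_rev, mul_inv_rev, inv_eq_of_mul_eq_one_right hp, inv_eq_of_mul_eq_one_right hq] at e
  simpa only [mul_assoc] using e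

theorem adj_list : ∀ x < 9, ∀ y < 9, adjB x y = true →
    ([(0, 1), (1, 2), (2, 3), (3, 4), (4, 5), (5, 6), (3, 7), (7, 8), (1, 0), (2, 1), (3, 2),
      (4, 3), (5, 4), (6, 5), (7, 3), (8, 7)] : List (ℕ × ℕ)).contains (x, y) = true := by decide +kernel

theorem gen_edge {x y : ℕ} (h : (x, y) ∈ [(0, 1), (1, 2), (2, 3), (3, 4), (4, 5), (5, 6), (3, 7), (7, 8)]) :
    (gen x * gen y) ^ 3 = 1 := by
  have H : ∀ u v : Fi22.Gen, coxLabel Fi22.edges u v = 3 →
      ((PresentedGroup.of u : Fi22) * PresentedGroup.of v) ^ 3 = 1 := fun u v huv => by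
    have := of_pair (extra := Fi22.extra) (nodes u) (nodes v)
    rwa [huv] at this
  simp only [List.mem_cons, List.not_mem_nil, or_false, Prod.mk.injEq] at h
  rcases h with ⟨rfl, rfl⟩ | ⟨rfl, rfl⟩ | ⟨rfl, rfl⟩ | ⟨rfl, rfl⟩ | ⟨rfl, rfl⟩ | ⟨rfl, rfl⟩ | ⟨rfl, rfl⟩ |
    ⟨rfl, rfl⟩
  all_goals exact H _ _ (by decide)

/-- lifts satisfying all the relations of the Coxeter group -/
theorem exists_cox (hc : π.ker ≤ Subgroup.center Γ) {f : ℕ → Γ} (hf : Lifts π f) :
    ∃ t : ℕ → Γ, Lifts π t ∧ CoxRel t := by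
  have step : ∀ p q : Γ, ∀ x y, π p = gen x → π q = gen y → p * p = 1 → q * q = 1 →
      (gen x * gen y) ^ 3 = 1 →
      π (adjust p q) = gen y ∧ adjust p q * adjust p q = 1 ∧ (p * adjust p q) ^ 3 = 1 := by
    intro p q x y hp hq hp2 hq2 h3
    have hk : π ((p * q) ^ 3) = 1 := by rw [map_pow, map_mul, hp, hq, h3]
    refine ⟨by rw [adjust, map_mul, hk, mul_one, hq], ?_⟩
    exact adjust_spec hp2 hq2 fun u => Subgroup.mem_center_iff.mp (hc hk) u
  have e0 := hf.proj 0 (by norm_num)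
  have s0 := hf.sq 0 (by norm_num)
  obtain ⟨e1, s1, b1⟩ := step _ (f 1) 0 1 e0 (hf.proj 1 (by norm_num)) s0 (hf.sq 1 (by norm_num)) (gen_edge (by simp))
  obtain ⟨e2, s2, b2⟩ := step _ (f 2) 1 2 e1 (hf.proj 2 (by norm_num)) s1 (hf.sq 2 (by norm_num)) (gen_edge (by simp))
  obtain ⟨e3, s3, b3⟩ := step _ (f 3) 2 3 e2 (hf.proj 3 (by norm_num)) s2 (hf.sq 3 (by norm_num)) (gen_edge (by simp))
  obtain ⟨e4, s4, b4⟩ := step _ (f 4) 3 4 e3 (hf.proj 4 (by norm_num)) s3 (hf.sq 4 (by norm_num)) (gen_edge (by simp))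
  obtain ⟨e5, s5, b5⟩ := step _ (f 5) 4 5 e4 (hf.proj 5 (by norm_num)) s4 (hf.sq 5 (by norm_num)) (gen_edge (by simp))
  obtain ⟨e6, s6, b6⟩ := step _ (f 6) 5 6 e5 (hf.proj 6 (by norm_num)) s5 (hf.sq 6 (by norm_num)) (gen_edge (by simp))
  obtain ⟨e7, s7, b7⟩ := step _ (f 7) 3 7 e3 (hf.proj 7 (by norm_num)) s3 (hf.sq 7 (by norm_num)) (gen_edge (by simp))
  obtain ⟨e8, s8, b8⟩ := step _ (f 8) 7 8 e7 (hf.proj 8 (by norm_num)) s7 (hf.sq 8 (by norm_num)) (gen_edge (by simp))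
  set t1 := adjust (f 0) (f 1)
  set t2 := adjust t1 (f 2)
  set t3 := adjust t2 (f 3)
  set t4 := adjust t3 (f 4)
  set t5 := adjust t4 (f 5)
  set t6 := adjust t5 (f 6)
  set t7 := adjust t3 (f 7)
  set t8 := adjust t7 (f 8)
  let t : ℕ → Γ := fun g => [f 0, t1, t2, t3, t4, t5, t6, t7, t8].getD g 1
  have ht : Lifts π t := by
    refine ⟨fun g hg => ?_, fun g hg => ?_⟩ <;> interval_cases g <;> assumption
  refine ⟨t, ht, ⟨fun x hx => ht.sq x hx, lifts_comm ht hc, fun x hx y hy hxy => ?_⟩⟩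
  have hmem := List.contains_iff_mem.mp (adj_list x hx y hy hxy)
  simp only [List.mem_cons, List.not_mem_nil, or_false, Prod.mk.injEq] at hmem
  rcases hmem with ⟨rfl, rfl⟩ | ⟨rfl, rfl⟩ | ⟨rfl, rfl⟩ | ⟨rfl, rfl⟩ | ⟨rfl, rfl⟩ | ⟨rfl, rfl⟩ | ⟨rfl, rfl⟩ |
    ⟨rfl, rfl⟩ | ⟨rfl, rfl⟩ | ⟨rfl, rfl⟩ | ⟨rfl, rfl⟩ | ⟨rfl, rfl⟩ | ⟨rfl, rfl⟩ | ⟨rfl, rfl⟩ | ⟨rfl, rfl⟩ | ⟨rfl, rfl⟩
  exacts [braid_of_pow s0 s1 b1, braid_of_pow s1 s2 b2, braid_of_pow s2 s3 b3, braid_of_pow s3 s4 b4,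
    braid_of_pow s4 s5 b5, braid_of_pow s5 s6 b6, braid_of_pow s3 s7 b7, braid_of_pow s7 s8 b8,
    (braid_of_pow s0 s1 b1).symm, (braid_of_pow s1 s2 b2).symm, (braid_of_pow s2 s3 b3).symm,
    (braid_of_pow s3 s4 b4).symm, (braid_of_pow s4 s5 b5).symm, (braid_of_pow s5 s6 b6).symm,
    (braid_of_pow s3 s7 b7).symm, (braid_of_pow s7 s8 b8).symm]

end CfsgLib.Fi22Mult
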