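import Mathlib
import Cfsg.Agent.Lib.CosetEnum.Words

/-!
Certificates that a word is trivial in the Coxeter group of the diagram `Y₃₃₂`: a list of moves, each one
cancelling a square, exchanging two commuting letters or applying a braid relation.
-/

set_option autoImplicit false

namespace CfsgLib.Fi22Mult

open CfsgLib.CosetEnum

/-- two nodes are joined -/
noncomputable def adjB (x y : ℕ) : Bool :=
  strict (Nat.add (Nat.mul (Nat.min x y) (nat_lit 16)) (Nat.max x y)) fun k =>
    Nat.beq k (nat_lit 1) || Nat.beq k (nat_lit 18) || Nat.beq k (nat_lit 35) || Nat.beq k (nat_lit 52) ||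
      Nat.beq k (nat_lit 55) || Nat.beq k (nat_lit 69) || Nat.beq k (nat_lit 86) || Nat.beq k (nat_lit 120)

/-- a braid move at the front -/
noncomputable def braidHere (x y : ℕ) : List ℕ → List ℕ
  | z :: r => pick (Nat.beq x z && adjB x y) (y :: x :: y :: r) (x :: y :: z :: r)
  | [] => [x, y]

/-- a move at the front -/
noncomputable def here (op : ℕ) : List ℕ → List ℕ
  | x :: y :: r =>
    pick (Nat.blt x 9 && Nat.blt y 9)
      (pick (Nat.beq op 0) (pick (Nat.beq x y) r (x :: y :: r))
        (pick (Nat.beq op 1) (pick (!Nat.beq x y && !adjB x y) (y :: x :: r) (x :: y :: r))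
          (braidHere x y r)))
      (x :: y :: r)
  | l => l

/-- a move at a place -/
noncomputable def moveAt (p : ℕ) : ℕ → List ℕ → List ℕ :=
  Nat.rec (motive := fun _ => ℕ → List ℕ → List ℕ) here
    (fun _ ih op l => match l with
      | [] => []
      | x :: r => x :: ih op r) p

/-- hand over the values of a list of numbers -/
noncomputable def forceW {α : Type} (l : List ℕ) : (List ℕ → α) → α :=
  List.rec (motive := fun _ => (List ℕ → α) → α) (fun k => k [])
    (fun b _ ih k => strict b fun b' => ih fun bs => k (b' :: bs)) l

theorem forceW_eq {α : Type} : ∀ (l : List ℕ) (k : List ℕ → α), forceW l k = k l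
  | [], _ => rfl
  | b :: bs, k => by
    show strict b (fun b' => forceW bs fun cs => k (b' :: cs)) = _
    rw [strict_eq, forceW_eq bs]

/-- apply the moves, coded as `3 * place + kind`, and see whether nothing is left -/
noncomputable def vanishes (ms : List ℕ) : List ℕ → Bool :=
  List.rec (motive := fun _ => List ℕ → Bool) (fun l => l.isEmpty)
    (fun m _ ih l => strict m fun k => forceW (moveAt (k / 3) (k % 3) l) fun l' => ih l') ms

/-- moves in several pieces -/
def glue (ls : List (List ℕ)) : List ℕ := ls.flatten

variable {P : Type*} [Group P]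

/-- the relations of the Coxeter group -/
structure CoxRel (f : ℕ → P) : Prop where
  sq : ∀ x < 9, f x * f x = 1
  comm : ∀ x < 9, ∀ y < 9, x ≠ y → adjB x y = false → f x * f y = f y * f x
  braid : ∀ x < 9, ∀ y < 9, adjB x y = true → f x * (f y * f x) = f y * (f x * f y)

theorem here_spec {f : ℕ → P} (hf : CoxRel f) (op : ℕ) : ∀ l, prodW f (here op l) = prodW f l
  | [] => rfl
  | [_] => rfl
  | x :: y :: r => by
    show prodW f (pick (Nat.blt x 9 && Nat.blt y 9) (pick (Nat.beq op 0) (pick (Nat.beq x y) r (x :: y :: r))
      (pick (Nat.beq op 1) (pick (!Nat.beq x y && !adjB x y) (y :: x :: r) (x :: y :: r)) (braidHere x y r)))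
      (x :: y :: r)) = _
    cases hxy : (Nat.blt x 9 && Nat.blt y 9)
    · rfl
    rw [Bool.and_eq_true, Nat.blt_eq, Nat.blt_eq] at hxy
    rw [pick_true]
    cases h0 : Nat.beq op 0
    · rw [pick_false]
      cases h1 : Nat.beq op 1
      · rw [pick_false]
        rcases r with _ | ⟨z, r'⟩
        · rfl
        · show prodW f (pick (Nat.beq x z && adjB x y) (y :: x :: y :: r') (x :: y :: z :: r')) = _
          cases hb : (Nat.beq x z && adjB x y)
          · rfl
          · rw [Bool.and_eq_true, Nat.beq_eq] at hb
            rw [pick_true, ← hb.1]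
            have e := hf.braid x hxy.1 y hxy.2 hb.2
            calc prodW f (y :: x :: y :: r') = f y * (f x * f y) * prodW f r' := by
                  simp only [prodW_cons, mul_assoc]
              _ = f x * (f y * f x) * prodW f r' := by rw [e]
              _ = prodW f (x :: y :: x :: r') := by simp only [prodW_cons, mul_assoc]
      · rw [pick_true]
        cases hb : (!Nat.beq x y && !adjB x y)
        · rfl
        · rw [Bool.and_eq_true, Bool.not_eq_true', Bool.not_eq_true'] at hb
          rw [pick_true]
          have hne : x ≠ y := fun e => by rw [e, Nat.beq_refl] at hb; exact absurd hb.1 (by decide)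
          simp only [prodW_cons, ← mul_assoc, hf.comm x hxy.1 y hxy.2 hne hb.2]
    · rw [pick_true]
      cases hb : Nat.beq x y
      · rfl
      · rw [pick_true, Nat.eq_of_beq_eq_true hb, prodW_cons, prodW_cons, ← mul_assoc, hf.sq y hxy.2,
          one_mul]

theorem moveAt_spec {f : ℕ → P} (hf : CoxRel f) : ∀ p op l, prodW f (moveAt p op l) = prodW f l
  | 0, op, l => here_spec hf op l
  | p + 1, op, l => by
    rcases l with _ | ⟨x, r⟩
    · rfl
    · show prodW f (x :: moveAt p op r) = _
      rw [prodW_cons, prodW_cons, moveAt_spec hf p]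

theorem vanishes_spec {f : ℕ → P} (hf : CoxRel f) :
    ∀ ms l, vanishes ms l = true → prodW f l = 1
  | [], l, h => by
    change l.isEmpty = true at h
    rw [List.isEmpty_iff.mp h, prodW_nil]
  | m :: ms, l, h => by
    change strict m (fun k => forceW (moveAt (k / 3) (k % 3) l) fun l' => vanishes ms l') = true at h
    rw [strict_eq, forceW_eq] at h
    rw [← moveAt_spec hf (m / 3) (m % 3) l]
    exact vanishes_spec hf ms _ h

end CfsgLib.Fi22Mult
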