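import Cfsg.Agent.Lib.Fi22Pres.Main
import Cfsg.Agent.Lib.CosetEnum.OutThree
import Cfsg.Agent.Lib.Fi22Mult.MoveChecks

/-!
Equations in the presented group Fi22, checked in the action on 3510 cosets.
-/

set_option autoImplicit false

namespace CfsgLib.Fi22Mult

open CfsgLib.CosetEnum CfsgLib.Fi22Pres Cfsg.Spor

/-- two words agree in Fi22 -/
noncomputable def eqW (u w : List ℕ) : Bool :=
  u.all (fun g => Nat.blt g 9) && w.all (fun g => Nat.blt g 9) && sameBases certA levels u w

theorem eqW_spec {u w : List ℕ} (h : eqW u w = true) :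
    (∀ g ∈ u, g < 9) ∧ (∀ g ∈ w, g < 9) ∧ prodW gen u = prodW gen w := by
  simp only [eqW, Bool.and_eq_true, List.all_eq_true, Nat.blt_eq] at h
  exact ⟨h.1.1, h.1.2,
    setupA.eq_of_bases chain_ok (chain_size.trans card_faithful.1.symm) h.1.1 h.1.2 h.2⟩

/-- the six conjugating conditions -/
noncomputable def pairOK (u v w : List ℕ) : Bool :=
  eqW (w.reverse ++ u ++ w) [0] && eqW (w.reverse ++ v ++ w) [2]

theorem pairs_ok : pairData.all (fun d => pairOK [d.1] [d.2.1] d.2.2) = true := by decide +kernel

theorem six_ok : sixData.all (fun d => pairOK [0] d.1 d.2) = true := by decide +kernel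

theorem six_prod : eqW ([0] ++ (sixData.map Prod.fst).flatten) [] = true := by decide +kernel

theorem spider_one : eqW (powWord spiderW 10) [] = true := by decide +kernel

theorem sevenA_one : eqW (powWord sevenA 9) [] = true := by decide +kernel

theorem sevenB_one : eqW (powWord sevenB 9) [] = true := by decide +kernel

theorem trU_one : [trU0, trU1, trU2, trU3, trU4, trU5].all (fun u => eqW (powWord u 3) []) = true := by
  decide +kernel

theorem pairs_cover : ∀ x < 9, ∀ y < 9, x < y → adjB x y = false →
    pairData.any (fun d => Nat.beq d.1 x && Nat.beq d.2.1 y) = true := by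
  decide +kernel

end CfsgLib.Fi22Mult
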